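import Mathlib
import Cfsg.Agent.Mrg.Omega.SQ1.Choice
import Cfsg.Agent.ZN.Block
import Cfsg.Agent.Mrg.Omega.TV.Basic

section


/-!
THEOREM LIN (bb OMEGA #12152, #12863), output form: two natural modules `W₁`, `W₂` of order `q^(k+1)` for `L₁`, `L₂`
in dual coordinates, `R = W₁ ∩ W₂` (coordinate `0`).
-/

set_option autoImplicit false

namespace Cfsg.Agent.Omega.Lin

variable {G : Type*} [Group G]

/-- `W` is the image of `F^n` under an injective additive-to-multiplicative map `e`; `L` acts semilinearly and induces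
`SL_n(F)`. -/
structure SemiMod (F : Type*) [Field F] (n : ℕ) (W L : Subgroup G) where
  e : (Fin n → F) → G
  e_add : ∀ x y, e (x + y) = e x * e y
  e_inj : Function.Injective e
  mem_iff : ∀ g, g ∈ W ↔ ∃ x, e x = g
  semi : ∀ g ∈ L, ∃ (s : F ≃+* F) (T : (Fin n → F) → (Fin n → F)),
    (∀ x, g * e x * g⁻¹ = e (T x)) ∧ ∀ (c : F) (x : Fin n → F), T (c • x) = s c • T x
  lift : ∀ A : Matrix.SpecialLinearGroup (Fin n) F, ∃ g ∈ L, ∀ x, g * e x * g⁻¹ = e (A.1.mulVec x)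

/-- The output of THEOREM LIN: `n = k + 1`, coordinate `0` is `R`, dual bases. -/
structure Out (F : Type*) [Field F] (k : ℕ) (W₁ W₂ L₁ L₂ R Q : Subgroup G) where
  E₁ : SemiMod F (k + 1) W₁ L₁
  E₂ : SemiMod F (k + 1) W₂ L₂
  r_eq : ∀ c : F, E₁.e (Pi.single 0 c) = E₂.e (Pi.single 0 c)
  mem_R : ∀ g, g ∈ R ↔ ∃ c : F, E₁.e (Pi.single 0 c) = g
  comm : ∀ x y, E₁.e x * E₂.e y * (E₁.e x)⁻¹ * (E₂.e y)⁻¹ =
    E₁.e (Pi.single 0 (∑ i : Fin k, x i.succ * y i.succ))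
  cen₁ : ∀ g ∈ L₁, (∀ w ∈ W₁, g * w = w * g) → g ∈ W₁
  cen₂ : ∀ g ∈ L₂, (∀ w ∈ W₂, g * w = w * g) → g ∈ W₂
  norm₁ : Subgroup.normalizer (R : Set G) ≤ L₁
  norm₂ : Subgroup.normalizer (R : Set G) ≤ L₂
  sup : W₁ ⊔ W₂ = Q

end Cfsg.Agent.Omega.Lin

end

section


/-!
# THEOREM LIN: the counting lemma for pairings with values in a finite field, linear on one side
-/

set_option autoImplicit false
set_option linter.unusedSectionVars false

namespace Cfsg.Agent.Omega.Lin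

section types

variable {A B F : Type*} [Group A] [Group B] [Field F] [Finite A] [Finite B] [Finite F]

/-- the space of all functions `p a` -/
def US (p : A → B → F) (h1 : ∀ a a' b, p (a * a') b = p a b + p a' b)
    (hs : ∀ (c : F) a, ∃ a', ∀ b, p a' b = c * p a b) : Submodule F (B → F) where
  carrier := {f | ∃ a, p a = f}
  add_mem' := by
    rintro _ _ ⟨a, rfl⟩ ⟨a', rfl⟩
    exact ⟨a * a', funext fun b => h1 a a' b⟩
  zero_mem' := ⟨1, funext fun b => by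
    have := h1 1 1 b
    rw [mul_one] at this
    exact left_eq_add.1 this⟩
  smul_mem' := by
    rintro c _ ⟨a, rfl⟩
    obtain ⟨a', ha'⟩ := hs c a
    exact ⟨a', funext ha'⟩

theorem card_dual (U : Submodule F (B → F)) : Nat.card (Module.Dual F U) = Nat.card U := by
  have : Fintype F := Fintype.ofFinite F
  have : Fintype U := Fintype.ofFinite U
  have : Finite (Module.Dual F U) := Module.finite_of_finite F
  have : Fintype (Module.Dual F U) := Fintype.ofFinite _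
  rw [Nat.card_eq_fintype_card, Nat.card_eq_fintype_card, Module.card_eq_pow_finrank (K := F),
    Module.card_eq_pow_finrank (K := F) (V := U), Subspace.dual_finrank_eq]

/-- evaluation -/
def evl (U : Submodule F (B → F)) (b : B) : Module.Dual F U where
  toFun f := f.1 b
  map_add' _ _ := rfl
  map_smul' _ _ := rfl

theorem card_US (p : A → B → F) (h1 : ∀ a a' b, p (a * a') b = p a b + p a' b)
    (hs : ∀ (c : F) a, ∃ a', ∀ b, p a' b = c * p a b) (KA : Subgroup A) (hKA : ∀ a ∈ KA, ∀ b, p a b = 0) :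
    Nat.card (US p h1 hs) * Nat.card KA ≤ Nat.card A := by
  have e : Nat.card A = Nat.card (A ⧸ KA) * Nat.card KA := Subgroup.card_eq_card_quotient_mul_card_subgroup KA
  rw [e]
  apply Nat.mul_le_mul_right
  let f : A ⧸ KA → US p h1 hs := Quotient.lift (s := QuotientGroup.leftRel KA) (fun a => ⟨p a, a, rfl⟩) (by
    intro a a' h
    have h2 : a⁻¹ * a' ∈ KA := QuotientGroup.leftRel_apply.1 h
    apply Subtype.ext
    funext b
    have h3 := h1 a (a⁻¹ * a') b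
    rw [hKA _ h2, add_zero, mul_inv_cancel_left] at h3
    exact h3.symm)
  apply Nat.card_le_card_of_surjective f
  rintro ⟨_, a, rfl⟩
  exact ⟨QuotientGroup.mk a, rfl⟩

theorem evl_out_inj (p : A → B → F) (h1 : ∀ a a' b, p (a * a') b = p a b + p a' b)
    (h2 : ∀ a b b', p a (b * b') = p a b + p a b')
    (hs : ∀ (c : F) a, ∃ a', ∀ b, p a' b = c * p a b) (KB : Subgroup B) (hKB : ∀ b, (∀ a, p a b = 0) → b ∈ KB) :
    Function.Injective (fun x : B ⧸ KB => evl (US p h1 hs) x.out) := by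
  intro x y h
  have h3 : ∀ a, p a x.out = p a y.out := fun a => by
    have := LinearMap.congr_fun h ⟨p a, a, rfl⟩
    exact this
  rw [← QuotientGroup.out_eq' x, ← QuotientGroup.out_eq' y, QuotientGroup.eq]
  apply hKB
  intro a
  have h4 := h2 a x.out (x.out⁻¹ * y.out)
  rw [mul_inv_cancel_left, ← h3] at h4
  exact left_eq_add.1 h4

theorem card_pair (p : A → B → F) (h1 : ∀ a a' b, p (a * a') b = p a b + p a' b)
    (h2 : ∀ a b b', p a (b * b') = p a b + p a b')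
    (hs : ∀ (c : F) a, ∃ a', ∀ b, p a' b = c * p a b) (KA : Subgroup A) (hKA : ∀ a ∈ KA, ∀ b, p a b = 0)
    (KB : Subgroup B) (hKB : ∀ b, (∀ a, p a b = 0) → b ∈ KB) :
    Nat.card B * Nat.card KA ≤ Nat.card A * Nat.card KB := by
  have : Finite (Module.Dual F (US p h1 hs)) := Module.finite_of_finite F
  have h3 := Nat.card_le_card_of_injective _ (evl_out_inj p h1 h2 hs KB hKB)
  rw [card_dual] at h3
  have e : Nat.card B = Nat.card (B ⧸ KB) * Nat.card KB := Subgroup.card_eq_card_quotient_mul_card_subgroup KB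
  have h4 := card_US p h1 hs KA hKA
  rw [e]
  calc Nat.card (B ⧸ KB) * Nat.card KB * Nat.card KA ≤ Nat.card (US p h1 hs) * Nat.card KB * Nat.card KA :=
        Nat.mul_le_mul_right _ (Nat.mul_le_mul_right _ h3)
    _ = Nat.card (US p h1 hs) * Nat.card KA * Nat.card KB := by ring
    _ ≤ Nat.card A * Nat.card KB := Nat.mul_le_mul_right _ h4

/-- if the numbers agree, every functional is an evaluation -/
theorem surj_pair (p : A → B → F) (h1 : ∀ a a' b, p (a * a') b = p a b + p a' b)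
    (h2 : ∀ a b b', p a (b * b') = p a b + p a b')
    (hs : ∀ (c : F) a, ∃ a', ∀ b, p a' b = c * p a b) (KA : Subgroup A) (hKA : ∀ a ∈ KA, ∀ b, p a b = 0)
    (KB : Subgroup B) (hKB : ∀ b, (∀ a, p a b = 0) → b ∈ KB)
    (he : Nat.card A * Nat.card KB ≤ Nat.card B * Nat.card KA) (φ : A → F) (hφ : ∀ a a', φ (a * a') = φ a + φ a')
    (hφs : ∀ (c : F) a a', (∀ b, p a' b = c * p a b) → φ a' = c * φ a) : ∃ b, ∀ a, φ a = p a b := by
  have : Finite (Module.Dual F (US p h1 hs)) := Module.finite_of_finite F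
  have hinj := evl_out_inj p h1 h2 hs KB hKB
  have h4 := card_US p h1 hs KA hKA
  have e : Nat.card B = Nat.card (B ⧸ KB) * Nat.card KB := Subgroup.card_eq_card_quotient_mul_card_subgroup KB
  have h5 : Nat.card (Module.Dual F (US p h1 hs)) ≤ Nat.card (B ⧸ KB) := by
    rw [card_dual]
    have hA : 0 < Nat.card KA := Nat.card_pos
    have hB : 0 < Nat.card KB := Nat.card_pos
    have h6 : Nat.card (US p h1 hs) * Nat.card KA * Nat.card KB ≤ Nat.card (B ⧸ KB) * Nat.card KB * Nat.card KA := by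
      rw [← e]
      exact (Nat.mul_le_mul_right _ h4).trans he
    have h7 : Nat.card (US p h1 hs) * (Nat.card KA * Nat.card KB) ≤ Nat.card (B ⧸ KB) * (Nat.card KA * Nat.card KB) := by
      calc Nat.card (US p h1 hs) * (Nat.card KA * Nat.card KB) = Nat.card (US p h1 hs) * Nat.card KA * Nat.card KB := by ring
        _ ≤ Nat.card (B ⧸ KB) * Nat.card KB * Nat.card KA := h6
        _ = Nat.card (B ⧸ KB) * (Nat.card KA * Nat.card KB) := by ring
    exact Nat.le_of_mul_le_mul_right h7 (Nat.mul_pos hA hB)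
  have hbij : Function.Bijective (fun x : B ⧸ KB => evl (US p h1 hs) x.out) := by
    rw [Nat.bijective_iff_injective_and_card]
    exact ⟨hinj, le_antisymm (Nat.card_le_card_of_injective _ hinj) h5⟩
  have hwd : ∀ a a', p a = p a' → φ a = φ a' := by
    intro a a' h
    have h8 := hφs 1 a' a fun b => by rw [one_mul, h]
    rwa [one_mul] at h8
  let Φ : Module.Dual F (US p h1 hs) :=
    { toFun := fun f => φ f.2.choose
      map_add' := by
        rintro f g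
        rw [← hφ]
        apply hwd
        rw [(f + g).2.choose_spec]
        funext b
        rw [h1, f.2.choose_spec, g.2.choose_spec]
        rfl
      map_smul' := by
        intro c f
        apply hφs
        intro b
        rw [(c • f).2.choose_spec, f.2.choose_spec]
        rfl }
  obtain ⟨x, hx⟩ := hbij.2 Φ
  refine ⟨x.out, fun a => ?_⟩
  have h9 := LinearMap.congr_fun hx ⟨p a, a, rfl⟩
  change p a x.out = φ _ at h9
  rw [h9]
  apply hwd
  exact (Exists.choose_spec (⟨a, rfl⟩ : ∃ a', p a' = p a)).symm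

end types

section subgroups

variable {G F : Type*} [Group G] [Finite G] [Field F] [Finite F]

theorem card_pair' (A B KA KB : Subgroup G) (hA : KA ≤ A) (hB : KB ≤ B) (p : G → G → F)
    (h1 : ∀ a ∈ A, ∀ a' ∈ A, ∀ b ∈ B, p (a * a') b = p a b + p a' b)
    (h2 : ∀ a ∈ A, ∀ b ∈ B, ∀ b' ∈ B, p a (b * b') = p a b + p a b')
    (hs : ∀ (c : F), ∀ a ∈ A, ∃ a' ∈ A, ∀ b ∈ B, p a' b = c * p a b) (hKA : ∀ a ∈ KA, ∀ b ∈ B, p a b = 0)
    (hKB : ∀ b ∈ B, (∀ a ∈ A, p a b = 0) → b ∈ KB) :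
    Nat.card B * Nat.card KA ≤ Nat.card A * Nat.card KB := by
  have h := card_pair (A := A) (B := B) (fun a b => p a b) (fun a a' b => h1 a a.2 a' a'.2 b b.2)
    (fun a b b' => h2 a a.2 b b.2 b' b'.2) (fun c a => by
      obtain ⟨a', ha', h⟩ := hs c a a.2
      exact ⟨⟨a', ha'⟩, fun b => h b b.2⟩) (KA.subgroupOf A) (fun a ha b => hKA a ha b b.2) (KB.subgroupOf B)
    (fun b hb => Subgroup.mem_subgroupOf.2 (hKB b b.2 fun a ha => hb ⟨a, ha⟩))
  rwa [Nat.card_congr (Subgroup.subgroupOfEquivOfLe hA).toEquiv,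
    Nat.card_congr (Subgroup.subgroupOfEquivOfLe hB).toEquiv] at h

theorem surj_pair' (A B KA KB : Subgroup G) (hA : KA ≤ A) (hB : KB ≤ B) (p : G → G → F)
    (h1 : ∀ a ∈ A, ∀ a' ∈ A, ∀ b ∈ B, p (a * a') b = p a b + p a' b)
    (h2 : ∀ a ∈ A, ∀ b ∈ B, ∀ b' ∈ B, p a (b * b') = p a b + p a b')
    (hs : ∀ (c : F), ∀ a ∈ A, ∃ a' ∈ A, ∀ b ∈ B, p a' b = c * p a b) (hKA : ∀ a ∈ KA, ∀ b ∈ B, p a b = 0)
    (hKB : ∀ b ∈ B, (∀ a ∈ A, p a b = 0) → b ∈ KB)
    (he : Nat.card A * Nat.card KB ≤ Nat.card B * Nat.card KA) (φ : G → F)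
    (hφ : ∀ a ∈ A, ∀ a' ∈ A, φ (a * a') = φ a + φ a')
    (hφs : ∀ (c : F), ∀ a ∈ A, ∀ a' ∈ A, (∀ b ∈ B, p a' b = c * p a b) → φ a' = c * φ a) :
    ∃ b ∈ B, ∀ a ∈ A, φ a = p a b := by
  obtain ⟨b, hb⟩ := surj_pair (A := A) (B := B) (fun a b => p a b) (fun a a' b => h1 a a.2 a' a'.2 b b.2)
    (fun a b b' => h2 a a.2 b b.2 b' b'.2) (fun c a => by
      obtain ⟨a', ha', h⟩ := hs c a a.2
      exact ⟨⟨a', ha'⟩, fun b => h b b.2⟩) (KA.subgroupOf A) (fun a ha b => hKA a ha b b.2) (KB.subgroupOf B)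
    (fun b hb => Subgroup.mem_subgroupOf.2 (hKB b b.2 fun a ha => hb ⟨a, ha⟩))
    (by rwa [Nat.card_congr (Subgroup.subgroupOfEquivOfLe hA).toEquiv,
      Nat.card_congr (Subgroup.subgroupOfEquivOfLe hB).toEquiv]) (fun a => φ a) (fun a a' => hφ a a.2 a' a'.2)
    (fun c a a' h => hφs c a a.2 a' a'.2 fun b hb => h ⟨b, hb⟩)
  exact ⟨b, b.2, fun a ha => hb ⟨a, ha⟩⟩

end subgroups

end Cfsg.Agent.Omega.Lin

end

section


/-!
# THEOREM TWO PAIRS (helper586, #20800 (4)): the abstract count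

* `count2` : `E`, `E ^ a` commute and are elementary abelian, `B` commutes with `a` and normalises `E`,
  `C_B(E) ≤ B₁ ≤ B`, `p` is a pairing between `E` and `B₁` with radical `C_{B₁}(E)` in `B₁`, and
  `[e, b] = [e', b] ^ a` implies `p (e, b) = 0`; `|XX : C_XX(B)| ≤ |B : C_B(XX)|` for `XX = E E ^ a`.
  Then `|E : C_E(B)| ≤ |B : B₁|`.
* `split2` : `E = V E₁ E₂`, `|E_j : {x : [x, B] ≤ E₁ ∩ E₂}| ≥ k`: `|E : C_E(B)| ≥ k ^ 2`.
-/

set_option autoImplicit false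
set_option linter.unusedSectionVars false

namespace Cfsg.Agent.Omega.NO3S.SN.TwoP

open Subgroup Cfsg.Agent.ZN.ChoiceBase
open Cfsg.Agent.Omega.SQ1.Bau (mem_sup_comm card_sup_comm)

universe u

variable {G : Type u} [Group G] [Finite G]

/-- commutators of products -/
theorem comm_prod {b e f : G} (h : e * (b * f * b⁻¹ * f⁻¹) = (b * f * b⁻¹ * f⁻¹) * e) :
    b * (e * f) * b⁻¹ * (e * f)⁻¹ = (b * e * b⁻¹ * e⁻¹) * (b * f * b⁻¹ * f⁻¹) := by
  have h1 : b * (e * f) * b⁻¹ * (e * f)⁻¹ = b * e * b⁻¹ * ((b * f * b⁻¹ * f⁻¹) * e⁻¹) := by group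
  have h2 : (b * f * b⁻¹ * f⁻¹) * e⁻¹ = e⁻¹ * (b * f * b⁻¹ * f⁻¹) := by
    rw [eq_inv_mul_iff_mul_eq, ← mul_assoc, h, mul_assoc, mul_inv_cancel, mul_one]
  rw [h1, h2]
  group

theorem comm_iff {b e : G} : b * e * b⁻¹ * e⁻¹ = 1 ↔ b * e = e * b := by
  rw [mul_inv_eq_one, mul_inv_eq_iff_eq_mul]

/-- **The count.** -/
theorem count2 {B B₁ E U : Subgroup G} {a : G} (hEU : E ≤ U) (hEa : ∀ e ∈ E, a * e * a⁻¹ ∈ U)
    (ab : ∀ u ∈ U, ∀ v ∈ U, u * v = v * u)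
    (haB : ∀ b ∈ B, a * b = b * a) (h1 : B₁ ≤ B)
    (hc : ∀ b ∈ B, (∀ e ∈ E, b * e = e * b) → b ∈ B₁) (p : G → G → ZMod 2)
    (p1 : ∀ e ∈ E, ∀ e' ∈ E, ∀ b ∈ B₁, p (e * e') b = p e b + p e' b)
    (p2 : ∀ e ∈ E, ∀ b ∈ B₁, ∀ b' ∈ B₁, p e (b * b') = p e b + p e b')
    (rad : ∀ b ∈ B₁, (∀ e ∈ E, p e b = 0) → ∀ e ∈ E, b * e = e * b)
    (key : ∀ e ∈ E, ∀ e' ∈ E, ∀ b ∈ B₁, b * e * b⁻¹ * e⁻¹ = a * (b * e' * b⁻¹ * e'⁻¹) * a⁻¹ → p e b = 0)
    (ex : Nat.card ↥(E ⊔ cj a E) * Nat.card ↥(B ⊓ centralizer ((E ⊔ cj a E : Subgroup G) : Set G)) ≤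
      Nat.card B * Nat.card ↥((E ⊔ cj a E) ⊓ centralizer (B : Set G))) :
    Nat.card E * Nat.card B₁ ≤ Nat.card B * Nat.card ↥(E ⊓ centralizer (B : Set G)) := by
  classical
  have hEaU : cj a E ≤ U := by
    rintro _ ⟨e, he, rfl⟩
    exact hEa e he
  have hXU : E ⊔ cj a E ≤ U := sup_le hEU hEaU
  have hca : ∀ b ∈ B, ∀ e : G, b * (a * e * a⁻¹) * b⁻¹ * (a * e * a⁻¹)⁻¹ = a * (b * e * b⁻¹ * e⁻¹) * a⁻¹ := by
    intro b hb e
    have h2 := haB b hb
    have h3 : a⁻¹ * b⁻¹ = b⁻¹ * a⁻¹ := by rw [← mul_inv_rev, ← mul_inv_rev, h2]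
    calc b * (a * e * a⁻¹) * b⁻¹ * (a * e * a⁻¹)⁻¹ = (b * a) * e * (a⁻¹ * b⁻¹) * a * e⁻¹ * a⁻¹ := by group
      _ = (a * b) * e * (b⁻¹ * a⁻¹) * a * e⁻¹ * a⁻¹ := by rw [h2, h3]
      _ = _ := by group
  have p0 : ∀ b ∈ B₁, p 1 b = 0 := fun b hb => by
    have := p1 1 (one_mem _) 1 (one_mem _) b hb
    rw [mul_one] at this
    exact left_eq_add.1 this
  -- the radical in `E`
  let K : Subgroup G :=
    { carrier := {e | e ∈ E ∧ ∀ b ∈ B₁, p e b = 0}
      one_mem' := ⟨one_mem _, p0⟩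
      mul_mem' := by
        rintro e e' ⟨he, h2⟩ ⟨he', h3⟩
        exact ⟨mul_mem he he', fun b hb => by rw [p1 e he e' he' b hb, h2 b hb, h3 b hb, add_zero]⟩
      inv_mem' := by
        rintro e ⟨he, h2⟩
        refine ⟨inv_mem he, fun b hb => ?_⟩
        have h3 := p1 e he e⁻¹ (inv_mem he) b hb
        rw [mul_inv_cancel, p0 b hb, h2 b hb, zero_add] at h3
        exact h3.symm }
  have hKE : K ≤ E := fun e he => he.1
  -- (1)
  have hrad : B₁ ⊓ centralizer (E : Set G) ≤ B₁ := inf_le_left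
  have c1 := Lin.card_pair' (F := ZMod 2) E B₁ K (B₁ ⊓ centralizer (E : Set G)) hKE hrad p p1 p2
    (by
      intro c e he
      rcases (by decide : ∀ t : ZMod 2, t = 0 ∨ t = 1) c with hc | hc
      · exact ⟨1, one_mem _, fun b hb => by rw [hc, zero_mul, p0 b hb]⟩
      · exact ⟨e, he, fun b _ => by rw [hc, one_mul]⟩)
    (fun e he b hb => he.2 b hb)
    (fun b hb h2 => ⟨hb, mem_centralizer_iff.2 fun e he => (rad b hb h2 e he).symm⟩)
  -- (2)
  set C := (E ⊔ cj a E) ⊓ centralizer (B : Set G) with hC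
  have hCU : C ≤ U := inf_le_left.trans hXU
  have hcm : ∀ {X Y : Subgroup G}, X ≤ U → Y ≤ U → ∀ x ∈ X, ∀ y ∈ Y, x * y = y * x :=
    fun hX hY x hx y hy => ab x (hX hx) y (hY hy)
  have hYU : cj a E ⊔ C ≤ U := sup_le hEaU hCU
  have hXX : E ⊔ (cj a E ⊔ C) = E ⊔ cj a E := by
    apply le_antisymm
    · exact sup_le le_sup_left (sup_le le_sup_right inf_le_left)
    · exact sup_le le_sup_left (le_sup_left.trans le_sup_right)
  have hEY : E ⊓ (cj a E ⊔ C) ≤ K := by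
    rintro e ⟨he, heY⟩
    refine ⟨he, fun b hb => ?_⟩
    obtain ⟨y, ⟨e', he', rfl⟩, c, hcC, hec⟩ := mem_sup_comm (hcm hEaU hCU) heY
    refine key e he e' he' b hb ?_
    have hbB := h1 hb
    have h2 := hca b hbB e'
    have h3 : b * c = c * b := mem_centralizer_iff.1 hcC.2 b hbB
    change e = a * e' * a⁻¹ * c at hec
    have h4 : b * c * b⁻¹ * c⁻¹ = 1 := comm_iff.2 h3
    rw [hec, comm_prod (by rw [h4, one_mul, mul_one]), h4, mul_one, h2]
  have c2 := card_sup_comm (hcm hEU hYU)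
  rw [hXX] at c2
  have c3 := card_sup_comm (hcm hEaU hCU)
  have c4 : Nat.card ↥(E ⊓ (cj a E ⊔ C)) ≤ Nat.card K := Subgroup.card_le_of_le hEY
  have c5 : Nat.card ↥(cj a E ⊓ C) = Nat.card ↥(E ⊓ centralizer (B : Set G)) := by
    rw [← card_cj a (E ⊓ centralizer (B : Set G))]
    congr 2
    ext y
    constructor
    · rintro ⟨⟨e, he, rfl⟩, hy⟩
      refine ⟨e, ⟨he, mem_centralizer_iff.2 fun b hb => ?_⟩, rfl⟩
      have h2 : b * (a * e * a⁻¹) = (a * e * a⁻¹) * b := mem_centralizer_iff.1 hy.2 b hb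
      have h3 := comm_iff.2 h2
      rw [hca b hb] at h3
      exact comm_iff.1 (conj_eq_one_iff.1 h3)
    · rintro ⟨e, ⟨he, he'⟩, rfl⟩
      refine ⟨⟨e, he, rfl⟩, mem_sup_right ⟨e, he, rfl⟩, mem_centralizer_iff.2 fun b hb => ?_⟩
      change b * (a * e * a⁻¹) = (a * e * a⁻¹) * b
      rw [← comm_iff, hca b hb, comm_iff.2 (mem_centralizer_iff.1 he' b hb)]
      group
  rw [c5, card_cj] at c3
  -- (3)
  have c6 : B ⊓ centralizer ((E ⊔ cj a E : Subgroup G) : Set G) = B₁ ⊓ centralizer (E : Set G) := by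
    apply le_antisymm
    · rintro b ⟨hb, hbX⟩
      have h2 : b ∈ centralizer (E : Set G) :=
        mem_centralizer_iff.2 fun e he => mem_centralizer_iff.1 hbX e (mem_sup_left he)
      exact ⟨hc b hb fun e he => (mem_centralizer_iff.1 h2 e he).symm, h2⟩
    · rintro b ⟨hb, hbE⟩
      refine ⟨h1 hb, ?_⟩
      have h2 : E ⊔ cj a E ≤ centralizer ({b} : Set G) := by
        refine sup_le (fun e he => mem_centralizer_singleton_iff.2 (mem_centralizer_iff.1 hbE e he)) ?_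
        rintro _ ⟨e, he, rfl⟩
        refine mem_centralizer_singleton_iff.2 (Eq.symm ?_)
        change b * (a * e * a⁻¹) = (a * e * a⁻¹) * b
        rw [← comm_iff, hca b (h1 hb), comm_iff.2 (mem_centralizer_iff.1 hbE e he).symm]
        group
      exact mem_centralizer_iff.2 fun y hy => mem_centralizer_singleton_iff.1 (h2 hy)
  rw [c6] at ex
  -- the numbers
  have q1 : 0 < Nat.card K := Nat.card_pos
  have q2 : 0 < Nat.card C := Nat.card_pos
  have q3 : 0 < Nat.card E := Nat.card_pos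
  have q4 : 0 < Nat.card ↥(B₁ ⊓ centralizer (E : Set G)) := Nat.card_pos
  have q5 : 0 < Nat.card ↥(E ⊓ centralizer (B : Set G)) := Nat.card_pos
  have q6 : 0 < Nat.card ↥(E ⊓ (cj a E ⊔ C)) := Nat.card_pos
  generalize Nat.card ↥(E ⊔ cj a E) = xx at *
  generalize Nat.card ↥(E ⊓ (cj a E ⊔ C)) = t at *
  generalize Nat.card ↥(cj a E ⊔ C) = y at *
  generalize Nat.card ↥(B₁ ⊓ centralizer (E : Set G)) = cb at *
  generalize Nat.card ↥(E ⊓ centralizer (B : Set G)) = ce at *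
  generalize Nat.card C = c at *
  generalize Nat.card K = k at *
  generalize Nat.card E = e at *
  generalize Nat.card B = b at *
  generalize Nat.card B₁ = b₁ at *
  -- c1 : b₁ * k ≤ e * cb ; c2 : xx * t = e * y ; c3 : y * ce = e * c ; c4 : t ≤ k ; ex : xx * cb ≤ b * c
  have r1 : e * e * c ≤ xx * k * ce := by
    calc e * e * c = e * (e * c) := by ring
      _ = e * (y * ce) := by rw [c3]
      _ = (e * y) * ce := by ring
      _ = xx * t * ce := by rw [c2]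
      _ ≤ xx * k * ce := Nat.mul_le_mul_right _ (Nat.mul_le_mul_left _ c4)
  have r2 : (e * b₁) * (e * c * cb * k) ≤ (b * ce) * (e * c * cb * k) := by
    calc (e * b₁) * (e * c * cb * k) = (e * e * c) * cb * (b₁ * k) := by ring
      _ ≤ (xx * k * ce) * cb * (e * cb) := Nat.mul_le_mul (Nat.mul_le_mul_right _ r1) c1
      _ = (xx * cb) * (k * ce * e * cb) := by ring
      _ ≤ (b * c) * (k * ce * e * cb) := Nat.mul_le_mul_right _ ex
      _ = (b * ce) * (e * c * cb * k) := by ring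
  exact Nat.le_of_mul_le_mul_right r2 (by positivity)

/-- **The lower bound.** -/
theorem split2 {B E₁ E₂ V U : Subgroup G} {k : ℕ} (ab : ∀ u ∈ U, ∀ v ∈ U, u * v = v * u)
    (hV : V ≤ U) (h1 : E₁ ≤ U) (h2 : E₂ ≤ U) (hBV : V ≤ centralizer (B : Set G))
    (hB1 : ∀ b ∈ B, ∀ e ∈ E₁, b * e * b⁻¹ ∈ E₁) (hB2 : ∀ b ∈ B, ∀ e ∈ E₂, b * e * b⁻¹ ∈ E₂) {F₁ F₂ : Subgroup G}
    (hF1 : ∀ e, e ∈ F₁ ↔ e ∈ E₁ ∧ ∀ b ∈ B, b * e * b⁻¹ * e⁻¹ ∈ E₁ ⊓ E₂)
    (hF2 : ∀ e, e ∈ F₂ ↔ e ∈ E₂ ∧ ∀ b ∈ B, b * e * b⁻¹ * e⁻¹ ∈ E₁ ⊓ E₂)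
    (k1 : k * Nat.card F₁ ≤ Nat.card E₁) (k2 : k * Nat.card F₂ ≤ Nat.card E₂) :
    k * k * Nat.card ↥((V ⊔ (E₁ ⊔ E₂)) ⊓ centralizer (B : Set G)) ≤ Nat.card ↥(V ⊔ (E₁ ⊔ E₂)) := by
  classical
  have hcm : ∀ {X Y : Subgroup G}, X ≤ U → Y ≤ U → ∀ x ∈ X, ∀ y ∈ Y, x * y = y * x :=
    fun hX hY x hx y hy => ab x (hX hx) y (hY hy)
  have hF1U : F₁ ≤ U := fun e he => h1 ((hF1 e).1 he).1
  have hF2U : F₂ ≤ U := fun e he => h2 ((hF2 e).1 he).1
  have h12 : E₁ ⊔ E₂ ≤ U := sup_le h1 h2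
  set C := (V ⊔ (E₁ ⊔ E₂)) ⊓ centralizer (B : Set G) with hC
  have hCU : C ≤ U := inf_le_left.trans (sup_le hV h12)
  have hinf : F₁ ⊓ F₂ = E₁ ⊓ E₂ := by
    apply le_antisymm
    · exact fun e he => ⟨((hF1 e).1 he.1).1, ((hF2 e).1 he.2).1⟩
    · intro e he
      have h3 : ∀ b ∈ B, b * e * b⁻¹ * e⁻¹ ∈ E₁ ⊓ E₂ := fun b hb =>
        mem_inf.2 ⟨E₁.mul_mem (hB1 b hb e he.1) (E₁.inv_mem he.1), E₂.mul_mem (hB2 b hb e he.2) (E₂.inv_mem he.2)⟩
      exact ⟨(hF1 e).2 ⟨he.1, h3⟩, (hF2 e).2 ⟨he.2, h3⟩⟩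
  have hC12 : C ⊓ (E₁ ⊔ E₂) ≤ F₁ ⊔ F₂ := by
    rintro x ⟨hxC, hx⟩
    obtain ⟨e, he, e', he', rfl⟩ := mem_sup_comm (hcm h1 h2) hx
    have h3 : ∀ b ∈ B, b * e * b⁻¹ * e⁻¹ ∈ E₁ ⊓ E₂ ∧ b * e' * b⁻¹ * e'⁻¹ ∈ E₁ ⊓ E₂ := by
      intro b hb
      have m1 : b * e * b⁻¹ * e⁻¹ ∈ E₁ := mul_mem (hB1 b hb e he) (inv_mem he)
      have m2 : b * e' * b⁻¹ * e'⁻¹ ∈ E₂ := mul_mem (hB2 b hb e' he') (inv_mem he')
      have h4 : b * (e * e') * b⁻¹ * (e * e')⁻¹ = 1 := comm_iff.2 (mem_centralizer_iff.1 hxC.2 b hb)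
      rw [comm_prod (ab _ (h1 he) _ (h2 m2))] at h4
      have h5 : b * e * b⁻¹ * e⁻¹ = (b * e' * b⁻¹ * e'⁻¹)⁻¹ := eq_inv_of_mul_eq_one_left h4
      have h6 : b * e' * b⁻¹ * e'⁻¹ = (b * e * b⁻¹ * e⁻¹)⁻¹ := eq_inv_of_mul_eq_one_right h4
      exact ⟨mem_inf.2 ⟨m1, by rw [h5]; exact E₂.inv_mem m2⟩, mem_inf.2 ⟨by rw [h6]; exact E₁.inv_mem m1, m2⟩⟩
    exact mul_mem_sup ((hF1 e).2 ⟨he, fun b hb => (h3 b hb).1⟩) ((hF2 e').2 ⟨he', fun b hb => (h3 b hb).2⟩)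
  have hsup : C ⊔ (E₁ ⊔ E₂) = V ⊔ (E₁ ⊔ E₂) := by
    apply le_antisymm
    · exact sup_le inf_le_left le_sup_right
    · exact sup_le (fun v hv => mem_sup_left ⟨mem_sup_left hv, hBV hv⟩) le_sup_right
  have c1 := card_sup_comm (hcm h1 h2)
  have c2 := card_sup_comm (hcm hF1U hF2U)
  have c3 := card_sup_comm (hcm hCU h12)
  rw [hsup] at c3
  rw [hinf] at c2
  have c4 : Nat.card ↥(C ⊓ (E₁ ⊔ E₂)) ≤ Nat.card ↥(F₁ ⊔ F₂) := Subgroup.card_le_of_le hC12
  have q1 : 0 < Nat.card ↥(E₁ ⊓ E₂) := Nat.card_pos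
  have q2 : 0 < Nat.card ↥(F₁ ⊔ F₂) := Nat.card_pos
  generalize Nat.card ↥(V ⊔ (E₁ ⊔ E₂)) = x at *
  generalize Nat.card ↥(C ⊓ (E₁ ⊔ E₂)) = t at *
  generalize Nat.card ↥(F₁ ⊔ F₂) = f at *
  generalize Nat.card ↥(E₁ ⊔ E₂) = e at *
  generalize Nat.card ↥(E₁ ⊓ E₂) = i at *
  generalize Nat.card C = c at *
  generalize Nat.card E₁ = e₁ at *
  generalize Nat.card E₂ = e₂ at *
  generalize Nat.card F₁ = f₁ at *
  generalize Nat.card F₂ = f₂ at *
  -- c1 : e * i = e₁ * e₂, c2 : f * i = f₁ * f₂, c3 : x * t = c * e, c4 : t ≤ f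
  have r1 : k * k * f * i ≤ e * i := by
    calc k * k * f * i = (k * k) * (f * i) := by ring
      _ = (k * f₁) * (k * f₂) := by rw [c2]; ring
      _ ≤ e₁ * e₂ := Nat.mul_le_mul k1 k2
      _ = e * i := c1.symm
  have r2 : k * k * f ≤ e := Nat.le_of_mul_le_mul_right r1 q1
  have r3 : (k * k * c) * f ≤ x * f := by
    calc (k * k * c) * f = c * (k * k * f) := by ring
      _ ≤ c * e := Nat.mul_le_mul_left _ r2
      _ = x * t := c3.symm
      _ ≤ x * f := Nat.mul_le_mul_left _ c4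
  exact Nat.le_of_mul_le_mul_right r3 q2

end Cfsg.Agent.Omega.NO3S.SN.TwoP

end

section


/-!
# LEMMA X (helper928, #20085; helper876, #20700), raw form

`E`, `E ^ a` commute and are elementary abelian, `B` commutes with `a` and normalises `E`, `[E, B₁] ≤ ⟨x⟩`, `x ^ a ≠ x`,
`C_B(E) ≤ B₁ ≤ B`, and `|XX : C_XX(B)| ≤ |B : C_B(XX)|` for `XX = E E ^ a`.  Then `|E : C_E(B)| ≤ |B : B₁|`.
-/

set_option autoImplicit false
set_option linter.unusedSectionVars false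

namespace Cfsg.Agent.Omega.NO3S.SN2

open Subgroup
open Cfsg.Agent.ZN.Block (card_sup_mul_card_inf)

universe u

variable {G : Type u} [Group G]

/-- `E ^ a` -/
def cj (a : G) (E : Subgroup G) : Subgroup G := E.map (MulAut.conj a).toMonoidHom

theorem mem_cj {a y : G} {E : Subgroup G} : y ∈ cj a E ↔ ∃ e ∈ E, y = a * e * a⁻¹ := by
  constructor
  · rintro ⟨e, he, rfl⟩
    exact ⟨e, he, rfl⟩
  · rintro ⟨e, he, rfl⟩
    exact ⟨e, he, rfl⟩

theorem card_cj (a : G) (E : Subgroup G) : Nat.card (cj a E) = Nat.card E :=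
  Nat.card_congr (E.equivMapOfInjective _ (MulAut.conj a).injective).symm.toEquiv

/-- commutators in a group with abelian normal pieces -/
theorem comm_mul {b e f : G} (h : e * (b * f * b⁻¹ * f⁻¹) = (b * f * b⁻¹ * f⁻¹) * e) :
    b * (e * f) * b⁻¹ * (e * f)⁻¹ = (b * e * b⁻¹ * e⁻¹) * (b * f * b⁻¹ * f⁻¹) := by
  have h1 : b * (e * f) * b⁻¹ * (e * f)⁻¹ = b * e * b⁻¹ * ((b * f * b⁻¹ * f⁻¹) * e⁻¹) := by group
  have h2 : (b * f * b⁻¹ * f⁻¹) * e⁻¹ = e⁻¹ * (b * f * b⁻¹ * f⁻¹) := by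
    rw [eq_inv_mul_iff_mul_eq, ← mul_assoc, h, mul_assoc, mul_inv_cancel, mul_one]
  rw [h1, h2]
  group

theorem lemX0 [Finite G] {B B₁ E U : Subgroup G} {a x : G} (hEU : E ≤ U) (hEa : ∀ e ∈ E, a * e * a⁻¹ ∈ U)
    (ab : ∀ u ∈ U, ∀ v ∈ U, u * v = v * u) (sq : ∀ u ∈ U, u * u = 1)
    (haB : ∀ b ∈ B, a * b = b * a) (hBE : ∀ b ∈ B, ∀ e ∈ E, b * e * b⁻¹ ∈ E) (h1 : B₁ ≤ B)
    (hc : ∀ b ∈ B, (∀ e ∈ E, b * e = e * b) → b ∈ B₁) (hx : a * x * a⁻¹ ≠ x)
    (hbx : ∀ b ∈ B₁, b * x = x * b)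
    (hp : ∀ b ∈ B₁, ∀ e ∈ E, b * e * b⁻¹ * e⁻¹ = 1 ∨ b * e * b⁻¹ * e⁻¹ = x)
    (ex : Nat.card ↥(E ⊔ cj a E) * Nat.card ↥(B ⊓ centralizer (E ⊔ cj a E : Subgroup G)) ≤
      Nat.card B * Nat.card ↥((E ⊔ cj a E) ⊓ centralizer (B : Set G))) :
    Nat.card E * Nat.card B₁ ≤ Nat.card B * Nat.card ↥(E ⊓ centralizer (B : Set G)) := by
  classical
  have hEaU : cj a E ≤ U := by
    intro y hy
    obtain ⟨e, he, rfl⟩ := mem_cj.1 hy
    exact hEa e he
  -- commutators with `a e a⁻¹`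
  have hca : ∀ b ∈ B, ∀ e : G, b * (a * e * a⁻¹) * b⁻¹ * (a * e * a⁻¹)⁻¹ = a * (b * e * b⁻¹ * e⁻¹) * a⁻¹ := by
    intro b hb e
    have h2 := haB b hb
    have h3 : a⁻¹ * b⁻¹ = b⁻¹ * a⁻¹ := by rw [← mul_inv_rev, ← mul_inv_rev, h2]
    calc b * (a * e * a⁻¹) * b⁻¹ * (a * e * a⁻¹)⁻¹ = (b * a) * e * (a⁻¹ * b⁻¹) * a * e⁻¹ * a⁻¹ := by group
      _ = (a * b) * e * (b⁻¹ * a⁻¹) * a * e⁻¹ * a⁻¹ := by rw [h2, h3]
      _ = _ := by group
  have hx1 : x ≠ 1 := by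
    rintro rfl
    exact hx (by group)
  set E1 : Subgroup G := E ⊓ centralizer (B₁ : Set G) with hE1
  have hcomm : ∀ {b e : G}, b * e * b⁻¹ * e⁻¹ = 1 ↔ b * e = e * b := by
    intro b e
    constructor
    · intro h
      have : b * e = (b * e * b⁻¹ * e⁻¹) * (e * b) := by group
      rw [this, h, one_mul]
    · intro h
      rw [h]
      group
  have memE1 : ∀ e ∈ E, (∀ b ∈ B₁, b * e * b⁻¹ * e⁻¹ = 1) → e ∈ E1 := by
    intro e he h
    exact ⟨he, mem_centralizer_iff.2 fun b hb => hcomm.1 (h b hb)⟩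
  -- two factors
  have key : ∀ e ∈ E, ∀ e' ∈ E, ∀ b ∈ B₁, b * e * b⁻¹ * e⁻¹ = (a * (b * e' * b⁻¹ * e'⁻¹) * a⁻¹)⁻¹ →
      b * e * b⁻¹ * e⁻¹ = 1 ∧ b * e' * b⁻¹ * e'⁻¹ = 1 := by
    intro e he e' he' b hb h
    rcases hp b hb e he with h3 | h3
    · refine ⟨h3, ?_⟩
      rw [h3] at h
      have h4 : a * (b * e' * b⁻¹ * e'⁻¹) * a⁻¹ = 1 := inv_eq_one.1 h.symm
      have : b * e' * b⁻¹ * e'⁻¹ = a⁻¹ * (a * (b * e' * b⁻¹ * e'⁻¹) * a⁻¹) * a := by group
      rw [this, h4]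
      group
    · exfalso
      have hxU : x ∈ U := by
        rw [← h3]
        exact U.mul_mem (hEU (hBE b (h1 hb) e he)) (U.inv_mem (hEU he))
      have hxi : x⁻¹ = x := inv_eq_of_mul_eq_one_left (sq x hxU)
      rw [h3] at h
      rcases hp b hb e' he' with h4 | h4
      · rw [h4] at h
        exact hx1 (by rw [h]; group)
      · rw [h4, eq_inv_iff_mul_eq_one, ← eq_inv_iff_mul_eq_one] at h
        apply hx
        have h5 : (a * x * a⁻¹)⁻¹ = a * x⁻¹ * a⁻¹ := by group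
        rw [h5, hxi] at h
        exact h.symm
  -- (i)
  have hi : (E ⊔ cj a E) ⊓ centralizer (B : Set G) ≤ (E1 ⊔ cj a E1) ⊓ centralizer (B : Set G) := by
    rintro w ⟨hw, hwB⟩
    refine ⟨?_, hwB⟩
    have hn : cj a E ≤ normalizer (E : Set G) := by
      intro y hy
      refine mem_normalizer_iff.2 fun z => ?_
      have h2 : ∀ z ∈ E, y * z * y⁻¹ ∈ E := fun z hz => by
        rw [ab y (hEaU hy) z (hEU hz), mul_inv_cancel_right]; exact hz
      have h3 : ∀ z ∈ E, y⁻¹ * z * y ∈ E := fun z hz => by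
        rw [mul_assoc, ← ab y (hEaU hy) z (hEU hz), inv_mul_cancel_left]; exact hz
      refine ⟨h2 z, fun h4 => ?_⟩
      have := h3 _ h4
      have e : y⁻¹ * (y * z * y⁻¹) * y = z := by group
      rwa [e] at this
    have hw' : w ∈ ((E ⊔ cj a E : Subgroup G) : Set G) := hw
    rw [Subgroup.coe_mul_of_right_le_normalizer_left E (cj a E) hn] at hw'
    obtain ⟨e, he, f, hf, rfl⟩ := hw'
    obtain ⟨e', he', rfl⟩ := mem_cj.1 hf
    have h5 : ∀ b ∈ B₁, b * e * b⁻¹ * e⁻¹ = 1 ∧ b * e' * b⁻¹ * e'⁻¹ = 1 := by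
      intro b hb
      have hbB := h1 hb
      apply key e he e' he' b hb
      have h6 : b * (e * (a * e' * a⁻¹)) * b⁻¹ * (e * (a * e' * a⁻¹))⁻¹ = 1 :=
        hcomm.2 (mem_centralizer_iff.1 hwB b hbB)
      rw [comm_mul, hca b hbB] at h6
      · exact eq_inv_of_mul_eq_one_left h6
      · rw [hca b hbB]
        exact ab _ (hEU he) _ (hEa _ (E.mul_mem (hBE b hbB e' he') (E.inv_mem he')))
    exact mul_mem_sup (memE1 e he fun b hb => (h5 b hb).1) (mem_cj.2 ⟨e', memE1 e' he' fun b hb => (h5 b hb).2, rfl⟩)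
  -- (ii)
  have hii : E ⊓ cj a E ≤ E1 ⊓ cj a E1 := by
    rintro e ⟨he, hea⟩
    obtain ⟨e', he', hee⟩ := mem_cj.1 hea
    have h5 : ∀ b ∈ B₁, b * e * b⁻¹ * e⁻¹ = 1 ∧ b * e' * b⁻¹ * e'⁻¹ = 1 := by
      intro b hb
      have hbB := h1 hb
      apply key e he e' he' b hb
      have h6 := hca b hbB e'
      rw [← hee] at h6
      rw [← h6]
      apply eq_inv_of_mul_eq_one_left
      exact sq _ (U.mul_mem (hEU (hBE b hbB e he)) (U.inv_mem (hEU he)))
    exact ⟨memE1 e he fun b hb => (h5 b hb).1, mem_cj.2 ⟨e', memE1 e' he' fun b hb => (h5 b hb).2, hee⟩⟩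
  have hnn : ∀ P P' : Subgroup G, P ≤ U → P' ≤ U → P ≤ normalizer (P' : Set G) := by
    intro P P' hP hP' y hy
    refine mem_normalizer_iff.2 fun z => ?_
    have h2 : ∀ z ∈ P', y * z * y⁻¹ ∈ P' := fun z hz => by
      rw [ab y (hP hy) z (hP' hz), mul_inv_cancel_right]; exact hz
    have h3 : ∀ z ∈ P', y⁻¹ * z * y ∈ P' := fun z hz => by
      rw [mul_assoc, ← ab y (hP hy) z (hP' hz), inv_mul_cancel_left]; exact hz
    refine ⟨h2 z, fun h4 => ?_⟩
    have := h3 _ h4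
    have e : y⁻¹ * (y * z * y⁻¹) * y = z := by group
    rwa [e] at this
  have hE1U : E1 ≤ U := inf_le_left.trans hEU
  have hE1aU : cj a E1 ≤ U := (map_mono inf_le_left).trans hEaU
  have c1 := card_sup_mul_card_inf (hnn E (cj a E) hEU hEaU)
  have c2 := card_sup_mul_card_inf (hnn E1 (cj a E1) hE1U hE1aU)
  rw [card_cj] at c1 c2
  have c3 : Nat.card ↥(E ⊓ cj a E) ≤ Nat.card ↥(E1 ⊓ cj a E1) := Nat.card_le_card_of_injective _ (inclusion_injective hii)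
  -- (iii)
  have hYU : E1 ⊔ cj a E1 ≤ U := sup_le hE1U hE1aU
  have c4 := card_sup_mul_card_inf (hnn E1 ((E1 ⊔ cj a E1) ⊓ centralizer (B : Set G)) hE1U (inf_le_left.trans hYU))
  have c5 : Nat.card ↥(E1 ⊔ ((E1 ⊔ cj a E1) ⊓ centralizer (B : Set G))) ≤ Nat.card ↥(E1 ⊔ cj a E1) :=
    Nat.card_le_card_of_injective _ (inclusion_injective (sup_le le_sup_left inf_le_left))
  have c6 : E1 ⊓ ((E1 ⊔ cj a E1) ⊓ centralizer (B : Set G)) = E ⊓ centralizer (B : Set G) := by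
    apply le_antisymm
    · exact fun y hy => ⟨hy.1.1, hy.2.2⟩
    · intro y hy
      have h7 : y ∈ E1 := ⟨hy.1, centralizer_le h1 hy.2⟩
      exact ⟨h7, le_sup_left (a := E1) h7, hy.2⟩
  rw [c6] at c4
  have c7 : Nat.card ↥((E ⊔ cj a E) ⊓ centralizer (B : Set G)) ≤
      Nat.card ↥((E1 ⊔ cj a E1) ⊓ centralizer (B : Set G)) := Nat.card_le_card_of_injective _ (inclusion_injective hi)
  -- (v)
  have c8 : B ⊓ centralizer ((E ⊔ cj a E : Subgroup G) : Set G) = B ⊓ centralizer (E : Set G) := by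
    apply le_antisymm
    · exact inf_le_inf_left _ (centralizer_le (show (E : Set G) ⊆ ((E ⊔ cj a E : Subgroup G) : Set G) from
        fun y hy => (le_sup_left : E ≤ E ⊔ cj a E) hy))
    · intro b hbb
      have hb : b ∈ B := hbb.1
      have hbE : b ∈ centralizer (E : Set G) := hbb.2
      refine ⟨hb, ?_⟩
      have h8 : E ⊔ cj a E ≤ centralizer ({b} : Set G) := by
        apply sup_le
        · intro e he
          rw [mem_centralizer_iff]
          rintro _ rfl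
          exact (mem_centralizer_iff.1 hbE e he).symm
        · intro y hy
          obtain ⟨e, he, rfl⟩ := mem_cj.1 hy
          rw [mem_centralizer_iff]
          rintro _ rfl
          apply hcomm.1
          rw [hca _ hb, hcomm.2 (mem_centralizer_iff.1 hbE e he).symm]
          group
      change b ∈ centralizer ((E ⊔ cj a E : Subgroup G) : Set G)
      rw [mem_centralizer_iff]
      intro y hy
      exact (mem_centralizer_iff.1 (h8 hy) b rfl).symm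
  rw [c8] at ex
  -- (iv)
  have c9 : Nat.card B₁ * Nat.card E1 ≤ Nat.card E * Nat.card ↥(B ⊓ centralizer (E : Set G)) := by
    have hex : ∀ b ∈ B₁, ∀ e ∈ E, ∀ f ∈ E, e * (b * f * b⁻¹ * f⁻¹) = (b * f * b⁻¹ * f⁻¹) * e := fun b hb e he f hf =>
      ab _ (hEU he) _ (hEU (E.mul_mem (hBE b (h1 hb) f hf) (E.inv_mem hf)))
    have hval : ∀ u v : G, (u = 1 ∨ u = x) → (v = 1 ∨ v = x) → (x * x = 1) → 
        ((if u * v = 1 then 0 else 1 : ZMod 2) = (if u = 1 then 0 else 1) + (if v = 1 then 0 else 1)) := by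
      rintro u v (rfl | rfl) (rfl | rfl) hxx
      · simp
      · simp [hx1]
      · simp [hx1]
      · simp only [hxx, if_true, hx1, if_false]
        decide
    have hxx : ∀ b ∈ B₁, ∀ e ∈ E, b * e * b⁻¹ * e⁻¹ = x → x * x = 1 := fun b hb e he h3 => by
      apply sq
      rw [← h3]
      exact U.mul_mem (hEU (hBE b (h1 hb) e he)) (U.inv_mem (hEU he))
    have hval' : ∀ b ∈ B₁, ∀ e ∈ E, ∀ b' ∈ B₁, ∀ e' ∈ E,
        ((if (b * e * b⁻¹ * e⁻¹) * (b' * e' * b'⁻¹ * e'⁻¹) = 1 then 0 else 1 : ZMod 2) =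
          (if b * e * b⁻¹ * e⁻¹ = 1 then 0 else 1) + (if b' * e' * b'⁻¹ * e'⁻¹ = 1 then 0 else 1)) := by
      intro b hb e he b' hb' e' he'
      rcases hp b hb e he with h3 | h3
      · rw [h3, one_mul]
        simp
      · exact hval _ _ (Or.inr h3) (hp b' hb' e' he') (hxx b hb e he h3)
    refine Cfsg.Agent.Omega.Lin.card_pair' (F := ZMod 2) E B₁ E1 (B ⊓ centralizer (E : Set G)) inf_le_left
      (fun b hb => hc b hb.1 fun e he => (mem_centralizer_iff.1 hb.2 e he).symm)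
      (fun e b => if b * e * b⁻¹ * e⁻¹ = 1 then 0 else 1) ?_ ?_ ?_ ?_ ?_
    · intro e he f hf b hb
      rw [comm_mul (hex b hb e he f hf)]
      exact hval' b hb e he b hb f hf
    · intro e he b hb b' hb'
      have h9 : b * b' * e * (b * b')⁻¹ * e⁻¹ = (b * e * b⁻¹ * e⁻¹) * (b' * e * b'⁻¹ * e⁻¹) := by
        have h10 : b * (b' * e * b'⁻¹ * e⁻¹) * b⁻¹ = b' * e * b'⁻¹ * e⁻¹ := by
          rcases hp b' hb' e he with h3 | h3
          · rw [h3]; group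
          · rw [h3, hbx b hb, mul_inv_cancel_right]
        calc b * b' * e * (b * b')⁻¹ * e⁻¹ = (b * (b' * e * b'⁻¹ * e⁻¹) * b⁻¹) * (b * e * b⁻¹ * e⁻¹) := by group
          _ = (b' * e * b'⁻¹ * e⁻¹) * (b * e * b⁻¹ * e⁻¹) := by rw [h10]
          _ = _ := ab _ (hEU (E.mul_mem (hBE b' (h1 hb') e he) (E.inv_mem he))) _
              (hEU (E.mul_mem (hBE b (h1 hb) e he) (E.inv_mem he)))
      rw [h9]
      exact hval' b hb e he b' hb' e he
    · intro c e he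
      fin_cases c
      · refine ⟨1, E.one_mem, fun b _ => ?_⟩
        rw [if_pos (by group)]
        exact (zero_mul _).symm
      · exact ⟨e, he, fun b _ => (one_mul _).symm⟩
    · intro e he b hb
      rw [if_pos (hcomm.2 (mem_centralizer_iff.1 he.2 b hb))]
    · intro b hb h3
      refine ⟨h1 hb, mem_centralizer_iff.2 fun e he => ?_⟩
      have h4 := h3 e he
      by_contra h5
      rw [if_neg (fun h6 => h5 (hcomm.1 h6).symm)] at h4
      exact one_ne_zero h4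
  -- (vi)
  have p1 : 0 < Nat.card E1 := Nat.card_pos
  have p2 : 0 < Nat.card E := Nat.card_pos
  set n := Nat.card E
  set n1 := Nat.card E1
  set c := Nat.card ↥(E ⊓ centralizer (B : Set G))
  set b := Nat.card B
  set b1 := Nat.card B₁
  set k := Nat.card ↥(B ⊓ centralizer (E : Set G))
  set X := Nat.card ↥(E ⊔ cj a E)
  set y := Nat.card ↥(E1 ⊔ cj a E1)
  set i := Nat.card ↥(E ⊓ cj a E)
  set j := Nat.card ↥(E1 ⊓ cj a E1)
  set w := Nat.card ↥((E ⊔ cj a E) ⊓ centralizer (B : Set G))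
  set w' := Nat.card ↥((E1 ⊔ cj a E1) ⊓ centralizer (B : Set G))
  -- X i = n n, y j = n1 n1, i ≤ j, n1 w' ≤ y c, w ≤ w', X k ≤ b w, b1 n1 ≤ n k
  have d1 : n1 * w' ≤ y * c := by
    rw [← c4]
    exact Nat.mul_le_mul_right _ c5
  have d2 : n1 * (X * k) ≤ b * (y * c) := by
    calc n1 * (X * k) ≤ n1 * (b * w) := Nat.mul_le_mul_left _ ex
      _ ≤ n1 * (b * w') := Nat.mul_le_mul_left _ (Nat.mul_le_mul_left _ c7)
      _ = b * (n1 * w') := by ring
      _ ≤ b * (y * c) := Nat.mul_le_mul_left _ d1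
  have d3 : n1 * (X * k * j) ≤ n1 * (b * c * n1) := by
    calc n1 * (X * k * j) = n1 * (X * k) * j := by ring
      _ ≤ b * (y * c) * j := Nat.mul_le_mul_right _ d2
      _ = b * c * (y * j) := by ring
      _ = b * c * (n1 * n1) := by rw [c2]
      _ = n1 * (b * c * n1) := by ring
  have d4 : X * k * j ≤ b * c * n1 := Nat.le_of_mul_le_mul_left d3 p1
  have d5 : n * n * k ≤ b * c * n1 := by
    calc n * n * k = X * i * k := by rw [c1]
      _ ≤ X * j * k := Nat.mul_le_mul_right _ (Nat.mul_le_mul_left _ c3)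
      _ = X * k * j := by ring
      _ ≤ _ := d4
  have d6 : n * b1 * n1 ≤ b * c * n1 := by
    calc n * b1 * n1 = n * (b1 * n1) := by ring
      _ ≤ n * (n * k) := Nat.mul_le_mul_left _ c9
      _ = n * n * k := by ring
      _ ≤ _ := d5
  exact Nat.le_of_mul_le_mul_right d6 p1

end Cfsg.Agent.Omega.NO3S.SN2

end

section


/-!
# Two T-minimal parabolics moving the same T-fixed vector never share an offender (helper828, #20470 (2))

`R` acts on the elementary abelian group `Y`, `K ⊴ R`, `K ≤ T ≤ R`, `{0, w₀, w₁, w₂} ≤ Y` is a four-group on which `R`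
is transitive and `K` trivial; `T` fixes `w₀` and `[y₀, T] ≤ ⟨w₀⟩`; `Y` is generated by the `w_i` and `y₀ ^ R`; `B ≤ T` is
abelian, `B ⊓ K = C_B(w₁)`, `B ≰ K`, `|Y : C_Y(B)| ≤ |B : C_B(Y)|`.  Then `B ⊓ K` centralises `y₀`.
-/

set_option autoImplicit false
set_option linter.unusedSectionVars false

namespace Cfsg.Agent.Omega.NO3S.SN2.TwoPar

open Subgroup

universe u

variable {R Y : Type u} [Group R] [AddCommGroup Y] [DistribMulAction R Y]

/-- `C_Y(B)` -/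
def fx (Y : Type u) [AddCommGroup Y] [DistribMulAction R Y] (B : Subgroup R) : AddSubgroup Y where
  carrier := {y | ∀ b ∈ B, b • y = y}
  add_mem' := fun hx hy b hb => by rw [smul_add, hx b hb, hy b hb]
  zero_mem' := fun b _ => smul_zero b
  neg_mem' := fun hx b hb => by rw [smul_neg, hx b hb]

theorem mem_fx {B : Subgroup R} {y : Y} : y ∈ fx Y B ↔ ∀ b ∈ B, b • y = y := Iff.rfl

/-- the kernel of the action -/
def kr (R Y : Type u) [Group R] [AddCommGroup Y] [DistribMulAction R Y] : Subgroup R where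
  carrier := {r | ∀ y : Y, r • y = y}
  mul_mem' := fun hx hy y => by rw [mul_smul, hy y, hx y]
  one_mem' := fun y => one_smul _ y
  inv_mem' := fun hx y => by rw [inv_smul_eq_iff, hx y]

theorem mem_kr {r : R} : r ∈ kr R Y ↔ ∀ y : Y, r • y = y := Iff.rfl

/-- The situation. -/
structure Sit (T K B : Subgroup R) (w₀ w₁ w₂ y₀ : Y) : Prop where
  finR : Finite R
  finY : Finite Y
  two : ∀ y : Y, y + y = 0
  Kn : K.Normal
  KT : K ≤ T
  sum : w₀ = w₁ + w₂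
  ne1 : w₁ ≠ 0
  ne2 : w₂ ≠ 0
  ne : w₁ ≠ w₂
  perm : ∀ r : R, r • w₀ = w₀ ∨ r • w₀ = w₁ ∨ r • w₀ = w₂
  tr1 : ∃ r : R, r • w₀ = w₁
  tr2 : ∃ r : R, r • w₀ = w₂
  Tw : ∀ t ∈ T, t • w₀ = w₀
  Ty : ∀ t ∈ T, t • y₀ = y₀ ∨ t • y₀ = y₀ + w₀
  span : AddSubgroup.closure (Set.range (fun r : R => r • w₀) ∪ Set.range (fun r : R => r • y₀)) = ⊤
  BT : B ≤ T
  comm : ∀ a ∈ B, ∀ b ∈ B, a * b = b * a
  BK : ∀ b ∈ B, b • w₁ = w₁ → b ∈ K
  nle : ¬ B ≤ K
  card : (fx Y B).index ≤ (kr R Y).relIndex B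

/-- pairing of `B` and `Y` with values in `P / W`, `|P : W| ≤ 2` -/
theorem pair_le [Finite R] [Finite Y] (h2 : ∀ y : Y, y + y = 0) {B N : Subgroup R} {P W Z : AddSubgroup Y}
    (hW : ∀ x ∈ P, ∀ y ∈ P, x ∉ W → y ∉ W → x + y ∈ W)
    (hP : ∀ b ∈ B, ∀ y : Y, b • y + y ∈ P) (hf : ∀ b ∈ B, ∀ x ∈ P, b • x = x)
    (hN : ∀ b ∈ B, (∀ y : Y, b • y + y ∈ W) → b ∈ N)
    (hZ : ∀ y ∈ Z, ∀ b ∈ B, b • y + y ∈ W) : N.relIndex B ≤ Z.index := by
  classical
  have key : ∀ b ∈ B, ∀ b' ∈ B, ∀ y : Y, (b * b') • y + y = (b • y + y) + (b' • y + y) := by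
    intro b hb b' hb' y
    have h3 := hf b hb _ (hP b' hb' y)
    rw [smul_add, ← mul_smul] at h3
    have h4 : (b * b') • y + b • y = b' • y + y := h3
    calc (b * b') • y + y = ((b * b') • y + b • y) + (b • y + y) := by
          rw [add_assoc, ← add_assoc (b • y), h2, zero_add]
      _ = _ := by rw [h4, add_comm]
  set χ : Y → ZMod 2 := fun x => if x ∈ W then 0 else 1 with hχ
  have χ0 : ∀ x, χ x = 0 ↔ x ∈ W := fun x => by
    simp only [hχ]
    split_ifs with h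
    · simp [h]
    · simp [h]
  have χadd : ∀ x ∈ P, ∀ y ∈ P, χ (x + y) = χ x + χ y := by
    intro x hx y hy
    by_cases h1 : x ∈ W <;> by_cases h3 : y ∈ W
    · simp [hχ, h1, h3, W.add_mem h1 h3]
    · have h4 : x + y ∉ W := fun h => h3 (by
        have := W.add_mem h1 h
        rwa [← add_assoc, h2, zero_add] at this)
      simp [hχ, h1, h3, h4]
    · have h4 : x + y ∉ W := fun h => h1 (by
        have := W.add_mem h h3
        rwa [add_assoc, h2, add_zero] at this)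
      simp [hχ, h1, h3, h4]
    · have h4 := hW x hx y hy h1 h3
      simp only [hχ, h1, h3, h4, if_true, if_false]
      decide
  let p : Multiplicative Y → B → ZMod 2 := fun y b => χ ((b : R) • (Multiplicative.toAdd y) + Multiplicative.toAdd y)
  have h1 : ∀ a a' b, p (a * a') b = p a b + p a' b := by
    intro a a' b
    simp only [p]
    rw [← χadd _ (hP b b.2 _) _ (hP b b.2 _), toAdd_mul, smul_add]
    congr 1
    abel
  have h3 : ∀ a b b', p a (b * b') = p a b + p a b' := by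
    intro a b b'
    simp only [p]
    rw [← χadd _ (hP b b.2 _) _ (hP b' b'.2 _), Subgroup.coe_mul, key _ b.2 _ b'.2]
  have hs : ∀ (c : ZMod 2) a, ∃ a', ∀ b, p a' b = c * p a b := by
    intro c a
    fin_cases c
    · refine ⟨1, fun b => ?_⟩
      have := h1 1 1 b
      rw [mul_one] at this
      have h5 : p 1 b = 0 := left_eq_add.1 this
      rw [h5]
      exact (zero_mul _).symm
    · exact ⟨a, fun b => (one_mul _).symm⟩
  have h5 := Cfsg.Agent.Omega.Lin.card_pair p h1 h3 hs (AddSubgroup.toSubgroup Z) (by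
      intro a ha b
      exact (χ0 _).2 (hZ _ ha b b.2)) (N.subgroupOf B) (by
      intro b hb
      rw [Subgroup.mem_subgroupOf]
      exact hN b b.2 fun y => (χ0 _).1 (hb (Multiplicative.ofAdd y)))
  have h6 : Nat.card B = N.relIndex B * Nat.card (N.subgroupOf B) := by
    rw [mul_comm]
    exact (Subgroup.card_mul_index (N.subgroupOf B)).symm
  have h7 : Nat.card (Multiplicative Y) = Z.index * Nat.card (AddSubgroup.toSubgroup Z) := by
    rw [mul_comm]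
    exact (AddSubgroup.card_mul_index Z).symm
  rw [h6, h7] at h5
  have p1 : 0 < Nat.card (N.subgroupOf B) := Nat.card_pos
  have p2 : 0 < Nat.card (AddSubgroup.toSubgroup Z) := Nat.card_pos
  refine Nat.le_of_mul_le_mul_right (c := Nat.card (N.subgroupOf B) * Nat.card (AddSubgroup.toSubgroup Z)) ?_
    (Nat.mul_pos p1 p2)
  calc _ = N.relIndex B * Nat.card (N.subgroupOf B) * Nat.card (AddSubgroup.toSubgroup Z) := by ring
    _ ≤ _ := h5
    _ = _ := by ring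

/-- `{0, w₁}` -/
theorem mem_zm (h2 : ∀ y : Y, y + y = 0) {w x : Y} : x ∈ AddSubgroup.zmultiples w ↔ x = 0 ∨ x = w := by
  constructor
  · rintro ⟨n, rfl⟩
    change n • w = 0 ∨ n • w = w
    rcases Int.even_or_odd' n with ⟨m, rfl | rfl⟩
    · left
      rw [mul_comm, mul_smul, two_smul, h2, smul_zero]
    · right
      rw [add_smul, mul_comm, mul_smul, two_smul, h2, smul_zero, zero_add, one_smul]
  · rintro (rfl | rfl)
    · exact zero_mem _
    · exact AddSubgroup.mem_zmultiples _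

namespace Sit

variable {T K B : Subgroup R} {w₀ w₁ w₂ y₀ : Y} (h : Sit T K B w₀ w₁ w₂ y₀)

include h

theorem add1 : w₀ + w₁ = w₂ := by
  rw [h.sum, add_comm w₁, add_assoc, h.two, add_zero]

theorem add2 : w₀ + w₂ = w₁ := by
  rw [h.sum, add_assoc, h.two, add_zero]

theorem ne01 : w₀ ≠ w₁ := fun e => h.ne2 (by rw [← h.add1, e, h.two])

theorem ne02 : w₀ ≠ w₂ := fun e => h.ne1 (by rw [← h.add2, e, h.two])

omit h in
/-- the four-group -/
def VR (w₁ w₂ : Y) : AddSubgroup Y := AddSubgroup.zmultiples w₁ ⊔ AddSubgroup.zmultiples w₂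

omit h in
theorem w1_mem : w₁ ∈ VR w₁ w₂ := AddSubgroup.mem_sup_left (AddSubgroup.mem_zmultiples _)

omit h in
theorem w2_mem : w₂ ∈ VR w₁ w₂ := AddSubgroup.mem_sup_right (AddSubgroup.mem_zmultiples _)

theorem w0_mem : w₀ ∈ VR w₁ w₂ := by rw [h.sum]; exact add_mem w1_mem w2_mem

theorem mem_VR {x : Y} (hx : x ∈ VR w₁ w₂) : x = 0 ∨ x = w₀ ∨ x = w₁ ∨ x = w₂ := by
  rw [VR, AddSubgroup.mem_sup] at hx
  obtain ⟨y, hy, z, hz, rfl⟩ := hx
  rw [mem_zm h.two] at hy hz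
  rcases hy with rfl | rfl <;> rcases hz with rfl | rfl
  · left; simp
  · right; right; right; simp
  · right; right; left; simp
  · right; left; exact h.sum.symm

theorem orb (r : R) {x : Y} (hx : x = w₀ ∨ x = w₁ ∨ x = w₂) : r • x = w₀ ∨ r • x = w₁ ∨ r • x = w₂ := by
  have h1 : ∃ s : R, s • w₀ = x := by
    rcases hx with rfl | rfl | rfl
    · exact ⟨1, one_smul _ _⟩
    · exact h.tr1
    · exact h.tr2
  obtain ⟨s, rfl⟩ := h1
  rw [← mul_smul]
  exact h.perm _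

theorem VR_inv (r : R) {x : Y} (hx : x ∈ VR w₁ w₂) : r • x ∈ VR w₁ w₂ := by
  rcases h.mem_VR hx with rfl | h1
  · rw [smul_zero]; exact zero_mem _
  · rcases h.orb r h1 with h2 | h2 | h2 <;> rw [h2]
    · exact h.w0_mem
    · exact w1_mem
    · exact w2_mem

theorem K_w0 {k : R} (hk : k ∈ K) : k • w₀ = w₀ := h.Tw k (h.KT hk)

theorem conj_mem {k : R} (hk : k ∈ K) (d : R) : d⁻¹ * k * d ∈ K := by
  have := h.Kn.conj_mem k hk d⁻¹
  rwa [inv_inv] at this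

theorem smul_conj (k d : R) (y : Y) : k • d • y = d • (d⁻¹ * k * d) • y := by
  rw [← mul_smul, ← mul_smul]
  congr 1
  group

theorem K_VR {k : R} (hk : k ∈ K) {x : Y} (hx : x ∈ VR w₁ w₂) : k • x = x := by
  rcases h.mem_VR hx with rfl | h1
  · exact smul_zero _
  · have h1 : ∃ s : R, s • w₀ = x := by
      rcases h1 with rfl | rfl | rfl
      · exact ⟨1, one_smul _ _⟩
      · exact h.tr1
      · exact h.tr2
    obtain ⟨s, rfl⟩ := h1
    rw [h.smul_conj, h.K_w0 (h.conj_mem hk s)]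

theorem K_orb {k : R} (hk : k ∈ K) (d : R) : k • d • y₀ + d • y₀ ∈ AddSubgroup.zmultiples (d • w₀) := by
  rw [h.smul_conj]
  rcases h.Ty _ (h.KT (h.conj_mem hk d)) with h1 | h1 <;> rw [h1]
  · rw [h.two]; exact zero_mem _
  · rw [smul_add, add_comm (d • y₀), add_assoc, h.two, add_zero]
    exact AddSubgroup.mem_zmultiples _

theorem K_all {k : R} (hk : k ∈ K) (y : Y) : k • y + y ∈ VR w₁ w₂ := by
  have hy : y ∈ AddSubgroup.closure (Set.range (fun r : R => r • w₀) ∪ Set.range (fun r : R => r • y₀)) := by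
    rw [h.span]; trivial
  induction hy using AddSubgroup.closure_induction with
  | mem x hx =>
    rcases hx with ⟨r, rfl⟩ | ⟨r, rfl⟩
    · change k • r • w₀ + r • w₀ ∈ _
      rw [h.K_VR hk (h.VR_inv r h.w0_mem), h.two]
      exact zero_mem _
    · have h1 := h.K_orb hk r
      have h3 := h.VR_inv r h.w0_mem
      exact (AddSubgroup.zmultiples_le_of_mem h3) h1
  | zero => rw [smul_zero, add_zero]; exact zero_mem _
  | add x y _ _ hx hy =>
    have : k • (x + y) + (x + y) = (k • x + x) + (k • y + y) := by rw [smul_add]; abel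
    rw [this]
    exact add_mem hx hy
  | neg x _ hx =>
    have : k • (-x) + (-x) = -(k • x + x) := by rw [smul_neg]; abel
    rw [this]
    exact neg_mem hx

theorem B_w0 {b : R} (hb : b ∈ B) : b • w₀ = w₀ := h.Tw b (h.BT hb)

theorem swap {c : R} (hc : c ∈ B) (hcK : c ∉ K) : c • w₁ = w₂ ∧ c • w₂ = w₁ := by
  have h1 : c • w₁ = w₂ := by
    rcases h.orb c (Or.inr (Or.inl rfl) : w₁ = w₀ ∨ w₁ = w₁ ∨ w₁ = w₂) with h1 | h1 | h1
    · exact absurd (smul_left_cancel c (h1.trans (h.B_w0 hc).symm)) h.ne01.symm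
    · exact absurd (h.BK c hc h1) hcK
    · exact h1
  refine ⟨h1, ?_⟩
  rw [← h.add1, smul_add, h.B_w0 hc, h1, h.add2]

theorem mem_B1 {b : R} (hb : b ∈ B) : b ∈ B ⊓ K ↔ b • w₁ = w₁ :=
  ⟨fun h1 => h.K_VR h1.2 w1_mem, fun h1 => ⟨hb, h.BK b hb h1⟩⟩

theorem relIndex_B1 : (B ⊓ K).relIndex B = 2 := by
  obtain ⟨c, hc, hcK⟩ := SetLike.not_le_iff_exists.1 h.nle
  obtain ⟨h1, h3⟩ := h.swap hc hcK
  rw [Subgroup.relIndex_eq_two_iff]
  refine ⟨c, hc, fun b hb => ?_⟩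
  by_cases hbK : b ∈ K
  · right
    refine ⟨⟨hb, hbK⟩, fun h4 => ?_⟩
    rw [h.mem_B1 (mul_mem hb hc), mul_smul, h1, h.K_VR hbK w2_mem] at h4
    exact h.ne h4.symm
  · left
    refine ⟨?_, fun h4 => hbK h4.2⟩
    rw [h.mem_B1 (mul_mem hb hc), mul_smul, h1]
    exact (h.swap hb hbK).2

theorem kr_relIndex : (kr R Y).relIndex B = 2 * (kr R Y).relIndex (B ⊓ K) := by
  have := h.finR
  have h1 : kr R Y ⊓ B = kr R Y ⊓ (B ⊓ K) := by
    apply le_antisymm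
    · intro x hx
      exact ⟨hx.1, (h.mem_B1 hx.2).2 (hx.1 w₁)⟩
    · exact inf_le_inf_left _ inf_le_left
  rw [← Subgroup.inf_relIndex_right (kr R Y) B, h1, ← Subgroup.inf_relIndex_right (kr R Y) (B ⊓ K),
    ← Subgroup.relIndex_mul_relIndex _ (B ⊓ K) B inf_le_right inf_le_left, h.relIndex_B1, mul_comm]

/-- `Z_i` -/
def ZZ (_ : Sit T K B w₀ w₁ w₂ y₀) (w : Y) : AddSubgroup Y where
  carrier := {y | ∀ k ∈ B ⊓ K, k • y + y ∈ AddSubgroup.zmultiples w}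
  zero_mem' := fun k _ => by rw [smul_zero, add_zero]; exact zero_mem _
  add_mem' := by
    intro x y hx hy k hk
    have : k • (x + y) + (x + y) = (k • x + x) + (k • y + y) := by rw [smul_add]; abel
    rw [this]
    exact add_mem (hx k hk) (hy k hk)
  neg_mem' := by
    intro x hx k hk
    have : k • (-x) + (-x) = -(k • x + x) := by rw [smul_neg]; abel
    rw [this]
    exact neg_mem (hx k hk)

theorem le_ZZ (w : Y) : fx Y (B ⊓ K) ≤ h.ZZ w := by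
  intro y hy k hk
  rw [hy k hk, h.two]
  exact zero_mem _

theorem index_ZZ {w w' : Y} (hw : (w = w₁ ∧ w' = w₂) ∨ (w = w₂ ∧ w' = w₁)) :
    (kr R Y).relIndex (B ⊓ K) ≤ (h.ZZ w).index := by
  have := h.finR
  have := h.finY
  obtain ⟨c, hc, hcK⟩ := SetLike.not_le_iff_exists.1 h.nle
  have h1 : c • w' = w ∧ w ≠ w' ∧ w ≠ 0 ∧ w' ≠ 0 := by
    rcases hw with ⟨rfl, rfl⟩ | ⟨rfl, rfl⟩
    · exact ⟨(h.swap hc hcK).2, h.ne, h.ne1, h.ne2⟩
    · exact ⟨(h.swap hc hcK).1, h.ne.symm, h.ne2, h.ne1⟩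
  obtain ⟨h1, h3, h4, h5⟩ := h1
  apply pair_le (P := VR w₁ w₂) (W := AddSubgroup.zmultiples w) h.two
  · intro x hx y hy hxW hyW
    rw [mem_zm h.two] at hxW hyW ⊢
    have e1 := h.add1
    have e2 := h.add2
    have e3 := h.sum
    rcases h.mem_VR hx with rfl | rfl | rfl | rfl <;> rcases h.mem_VR hy with rfl | rfl | rfl | rfl <;>
      rcases hw with ⟨rfl, rfl⟩ | ⟨rfl, rfl⟩ <;>
      first
        | exact Or.inl (h.two _)
        | (exfalso; exact hxW (Or.inl rfl))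
        | (exfalso; exact hxW (Or.inr rfl))
        | (exfalso; exact hyW (Or.inl rfl))
        | (exfalso; exact hyW (Or.inr rfl))
        | exact Or.inr e1
        | exact Or.inr e2
        | exact Or.inr ((add_comm _ _).trans e1)
        | exact Or.inr ((add_comm _ _).trans e2)
  · intro b hb y
    exact h.K_all hb.2 y
  · intro b hb x hx
    exact h.K_VR hb.2 hx
  · intro b hb hy y
    have h6 := hy y
    have h7 := hy (c • y)
    have h8 : b • c • y + c • y = c • (b • y + y) := by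
      rw [smul_add, ← mul_smul, ← mul_smul, h.comm b hb.1 c hc]
    rw [h8, mem_zm h.two] at h7
    rw [mem_zm h.two] at h6
    have h9 : b • y + y = 0 := by
      rcases h6 with h6 | h6
      · exact h6
      · rw [h6] at h7
        rcases h7 with h7 | h7
        · exact absurd ((smul_eq_zero_iff_eq c).1 h7) h4
        · exact absurd (smul_left_cancel c (h7.trans h1.symm)) h3
    have h10 : b • y = b • y + y + y := by rw [add_assoc, h.two, add_zero]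
    rw [h10, h9, zero_add]
  · intro y hy b hb
    exact hy b hb

theorem main_index : (∀ w, w = w₁ ∨ w = w₂ → h.ZZ w ≤ fx Y (B ⊓ K)) ∧
    (fx Y B).relIndex (fx Y (B ⊓ K)) = 2 := by
  have := h.finR
  have := h.finY
  obtain ⟨c, hc, hcK⟩ := SetLike.not_le_iff_exists.1 h.nle
  have hle : fx Y B ≤ fx Y (B ⊓ K) := fun y hy b hb => hy b hb.1
  have h1 : 2 ≤ (fx Y B).relIndex (fx Y (B ⊓ K)) := by
    have p1 : (fx Y B).relIndex (fx Y (B ⊓ K)) ≠ 0 :=
      (AddSubgroup.index_ne_zero_of_finite : ((fx Y B).addSubgroupOf (fx Y (B ⊓ K))).index ≠ 0)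
    have p2 : (fx Y B).relIndex (fx Y (B ⊓ K)) ≠ 1 := by
      intro e
      rw [AddSubgroup.relIndex_eq_one] at e
      have h3 : w₁ ∈ fx Y B := e fun b hb => h.K_VR hb.2 w1_mem
      exact h.ne ((h3 c hc).symm.trans (h.swap hc hcK).1)
    omega
  have h3 := AddSubgroup.relIndex_mul_index hle
  have h4 := h.card
  rw [h.kr_relIndex] at h4
  have key : ∀ w w', (w = w₁ ∧ w' = w₂) ∨ (w = w₂ ∧ w' = w₁) → (fx Y (B ⊓ K)).index ≤ (h.ZZ w).index ∧
      (fx Y B).relIndex (fx Y (B ⊓ K)) ≤ 2 ∧ h.ZZ w ≤ fx Y (B ⊓ K) := by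
    intro w w' hw
    have h5 := h.index_ZZ hw
    have h6 := AddSubgroup.relIndex_mul_index (h.le_ZZ w)
    have p0 : 0 < (fx Y (B ⊓ K)).index := Nat.pos_of_ne_zero AddSubgroup.index_ne_zero_of_finite
    have p1 : 0 < (h.ZZ w).index := Nat.pos_of_ne_zero AddSubgroup.index_ne_zero_of_finite
    have p2 : 0 < (fx Y (B ⊓ K)).relIndex (h.ZZ w) := Nat.pos_of_ne_zero
      (AddSubgroup.index_ne_zero_of_finite : ((fx Y (B ⊓ K)).addSubgroupOf (h.ZZ w)).index ≠ 0)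
    have h7 : (fx Y (B ⊓ K)).index ≤ (h.ZZ w).index := by nlinarith
    have h8 : (h.ZZ w).index ≤ (fx Y (B ⊓ K)).index := by nlinarith
    refine ⟨h7, ?_, ?_⟩
    · have h9 : (fx Y B).relIndex (fx Y (B ⊓ K)) * (fx Y (B ⊓ K)).index ≤ 2 * (fx Y (B ⊓ K)).index := by
        rw [h3]
        exact h4.trans (Nat.mul_le_mul_left _ (h5.trans h8))
      exact Nat.le_of_mul_le_mul_right h9 p0
    · rw [← AddSubgroup.relIndex_eq_one]
      have h9 : (fx Y (B ⊓ K)).relIndex (h.ZZ w) * (h.ZZ w).index ≤ 1 * (h.ZZ w).index := by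
        rw [h6, one_mul]
        exact h7
      have h10 := Nat.le_of_mul_le_mul_right h9 p1
      omega
  refine ⟨?_, le_antisymm (key _ _ (Or.inl ⟨rfl, rfl⟩)).2.1 h1⟩
  rintro w (rfl | rfl)
  · exact (key _ _ (Or.inl ⟨rfl, rfl⟩)).2.2
  · exact (key _ _ (Or.inr ⟨rfl, rfl⟩)).2.2

theorem orb_mem {d : R} (hd : d • w₀ ≠ w₀) : d • y₀ ∈ fx Y (B ⊓ K) := by
  have h1 : d • w₀ = w₁ ∨ d • w₀ = w₂ := (h.perm d).resolve_left hd
  exact h.main_index.1 _ h1 fun k hk => h.K_orb hk.2 d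

theorem c_mem {c : R} (hc : c ∈ B) (hcK : c ∉ K) {y : Y} (hy : y ∈ fx Y (B ⊓ K)) : c • y + y ∈ VR w₁ w₂ := by
  by_cases h1 : y ∈ fx Y B
  · rw [h1 c hc, h.two]
    exact zero_mem _
  · have h3 : ((fx Y B).addSubgroupOf (fx Y (B ⊓ K))).index = 2 := h.main_index.2
    have hw : w₁ ∈ fx Y (B ⊓ K) := fun b hb => h.K_VR hb.2 w1_mem
    have h4 : w₁ ∉ fx Y B := fun h5 => h.ne ((h5 c hc).symm.trans (h.swap hc hcK).1)
    have h5 : y + w₁ ∈ fx Y B := by
      have h6 := (AddSubgroup.add_mem_iff_of_index_two h3 (a := ⟨y, hy⟩) (b := ⟨w₁, hw⟩)).2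
        ⟨fun h7 => absurd h7 h1, fun h7 => absurd h7 h4⟩
      exact h6
    have h6 := h5 c hc
    rw [smul_add, (h.swap hc hcK).1] at h6
    have h7 : c • y + y = w₁ + w₂ := by
      have h8 : c • y + w₂ + (w₂ + y) = y + w₁ + (w₂ + y) := by rw [h6]
      have h9 : c • y + w₂ + (w₂ + y) = c • y + y := by
        rw [add_assoc, ← add_assoc w₂, h.two, zero_add]
      have h10 : y + w₁ + (w₂ + y) = w₁ + w₂ + (y + y) := by abel
      rw [h9, h10, h.two, add_zero] at h8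
      exact h8
    rw [h7]
    exact add_mem w1_mem w2_mem

/-- **helper828, #20470 (2)** -/
theorem main {b : R} (hb : b ∈ B) (hbK : b ∈ K) : b • y₀ = y₀ := by
  obtain ⟨c, hc, hcK⟩ := SetLike.not_le_iff_exists.1 h.nle
  obtain ⟨d, hd⟩ := h.tr1
  have h1 : d • w₀ ≠ w₀ := by rw [hd]; exact h.ne01.symm
  have h3 := h.c_mem hc hcK (h.orb_mem h1)
  set g : R := d⁻¹ * c * d with hg
  have h4 : g • y₀ + y₀ ∈ VR w₁ w₂ := by
    have h5 := h.VR_inv d⁻¹ h3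
    rw [smul_add, ← mul_smul, ← mul_smul, inv_smul_smul] at h5
    exact h5
  have h5 : g • w₀ ≠ w₀ := by
    intro e
    rw [hg, mul_smul, mul_smul, hd, inv_smul_eq_iff, hd] at e
    exact h.ne (e.symm.trans (h.swap hc hcK).1)
  have h6 := h.orb_mem h5
  have h7 : y₀ ∈ fx Y (B ⊓ K) := by
    have h8 : y₀ = g • y₀ + (g • y₀ + y₀) := by rw [← add_assoc, h.two, zero_add]
    rw [h8]
    exact add_mem h6 fun b hb => h.K_VR hb.2 h4
  exact h7 b ⟨hb, hbK⟩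

end Sit

end Cfsg.Agent.Omega.NO3S.SN2.TwoPar

end

section


/-!
# (b') of SN.Two (helper347, #22022), module part

As in `TwoPar`, with a subgroup `P` (image of `N = ⟨V ^ y : [V ^ y, Q] ≤ V⟩`) in place of the vector `y₀`; `K` is now
`C_K(W₁₂)`, `B = ker f₁₂`.
-/

set_option autoImplicit false
set_option linter.unusedSectionVars false

namespace Cfsg.Agent.Omega.NO3S.SN2.BpAbs

open Subgroup
open Cfsg.Agent.Omega.NO3S.SN2.TwoPar (fx mem_fx kr mem_kr pair_le mem_zm)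

universe u

variable {R Y : Type u} [Group R] [AddCommGroup Y] [DistribMulAction R Y]

/-- The situation. -/
structure Sit (T K B : Subgroup R) (P : AddSubgroup Y) (w₀ w₁ w₂ : Y) : Prop where
  finR : Finite R
  finY : Finite Y
  two : ∀ y : Y, y + y = 0
  Kn : K.Normal
  KT : K ≤ T
  sum : w₀ = w₁ + w₂
  ne1 : w₁ ≠ 0
  ne2 : w₂ ≠ 0
  ne : w₁ ≠ w₂
  perm : ∀ r : R, r • w₀ = w₀ ∨ r • w₀ = w₁ ∨ r • w₀ = w₂
  tr1 : ∃ r : R, r • w₀ = w₁
  tr2 : ∃ r : R, r • w₀ = w₂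
  Tw : ∀ t ∈ T, t • w₀ = w₀
  KP : ∀ k ∈ K, ∀ y ∈ P, k • y + y ∈ AddSubgroup.zmultiples w₀
  w1P : w₁ ∈ P
  w2P : w₂ ∈ P
  span : AddSubgroup.closure {z : Y | ∃ r : R, ∃ y ∈ P, z = r • y} = ⊤
  BT : B ≤ T
  comm : ∀ a ∈ B, ∀ b ∈ B, a * b = b * a
  BK : ∀ b ∈ B, b • w₁ = w₁ → b ∈ K
  nle : ¬ B ≤ K
  card : (fx Y B).index ≤ (kr R Y).relIndex B

namespace Sit

variable {T K B : Subgroup R} {P : AddSubgroup Y} {w₀ w₁ w₂ : Y} (h : Sit T K B P w₀ w₁ w₂)

include h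

theorem add1 : w₀ + w₁ = w₂ := by
  rw [h.sum, add_comm w₁, add_assoc, h.two, add_zero]

theorem add2 : w₀ + w₂ = w₁ := by
  rw [h.sum, add_assoc, h.two, add_zero]

theorem ne01 : w₀ ≠ w₁ := fun e => h.ne2 (by rw [← h.add1, e, h.two])

theorem ne02 : w₀ ≠ w₂ := fun e => h.ne1 (by rw [← h.add2, e, h.two])

omit h in
/-- the four-group -/
def VR (w₁ w₂ : Y) : AddSubgroup Y := AddSubgroup.zmultiples w₁ ⊔ AddSubgroup.zmultiples w₂

omit h in
theorem w1_mem : w₁ ∈ VR w₁ w₂ := AddSubgroup.mem_sup_left (AddSubgroup.mem_zmultiples _)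

omit h in
theorem w2_mem : w₂ ∈ VR w₁ w₂ := AddSubgroup.mem_sup_right (AddSubgroup.mem_zmultiples _)

theorem w0_mem : w₀ ∈ VR w₁ w₂ := by rw [h.sum]; exact add_mem w1_mem w2_mem

theorem VR_le : VR w₁ w₂ ≤ P := sup_le (AddSubgroup.zmultiples_le_of_mem h.w1P) (AddSubgroup.zmultiples_le_of_mem h.w2P)

theorem mem_VR {x : Y} (hx : x ∈ VR w₁ w₂) : x = 0 ∨ x = w₀ ∨ x = w₁ ∨ x = w₂ := by
  rw [VR, AddSubgroup.mem_sup] at hx
  obtain ⟨y, hy, z, hz, rfl⟩ := hx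
  rw [mem_zm h.two] at hy hz
  rcases hy with rfl | rfl <;> rcases hz with rfl | rfl
  · left; simp
  · right; right; right; simp
  · right; right; left; simp
  · right; left; exact h.sum.symm

theorem orb (r : R) {x : Y} (hx : x = w₀ ∨ x = w₁ ∨ x = w₂) : r • x = w₀ ∨ r • x = w₁ ∨ r • x = w₂ := by
  have h1 : ∃ s : R, s • w₀ = x := by
    rcases hx with rfl | rfl | rfl
    · exact ⟨1, one_smul _ _⟩
    · exact h.tr1
    · exact h.tr2
  obtain ⟨s, rfl⟩ := h1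
  rw [← mul_smul]
  exact h.perm _

theorem VR_inv (r : R) {x : Y} (hx : x ∈ VR w₁ w₂) : r • x ∈ VR w₁ w₂ := by
  rcases h.mem_VR hx with rfl | h1
  · rw [smul_zero]; exact zero_mem _
  · rcases h.orb r h1 with h2 | h2 | h2 <;> rw [h2]
    · exact h.w0_mem
    · exact w1_mem
    · exact w2_mem

theorem K_w0 {k : R} (hk : k ∈ K) : k • w₀ = w₀ := h.Tw k (h.KT hk)

theorem conj_mem {k : R} (hk : k ∈ K) (d : R) : d⁻¹ * k * d ∈ K := by
  have := h.Kn.conj_mem k hk d⁻¹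
  rwa [inv_inv] at this

theorem smul_conj (k d : R) (y : Y) : k • d • y = d • (d⁻¹ * k * d) • y := by
  rw [← mul_smul, ← mul_smul]
  congr 1
  group

theorem K_VR {k : R} (hk : k ∈ K) {x : Y} (hx : x ∈ VR w₁ w₂) : k • x = x := by
  rcases h.mem_VR hx with rfl | h1
  · exact smul_zero _
  · have h1 : ∃ s : R, s • w₀ = x := by
      rcases h1 with rfl | rfl | rfl
      · exact ⟨1, one_smul _ _⟩
      · exact h.tr1
      · exact h.tr2
    obtain ⟨s, rfl⟩ := h1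
    rw [h.smul_conj, h.K_w0 (h.conj_mem hk s)]

theorem K_orb {k : R} (hk : k ∈ K) (d : R) {y : Y} (hy : y ∈ P) :
    k • d • y + d • y ∈ AddSubgroup.zmultiples (d • w₀) := by
  rw [h.smul_conj, ← smul_add]
  have h1 := h.KP _ (h.conj_mem hk d) y hy
  rw [mem_zm h.two] at h1 ⊢
  rcases h1 with h1 | h1 <;> rw [h1]
  · left; exact smul_zero _
  · right; rfl

theorem K_all {k : R} (hk : k ∈ K) (y : Y) : k • y + y ∈ VR w₁ w₂ := by
  have hy : y ∈ AddSubgroup.closure {z : Y | ∃ r : R, ∃ y ∈ P, z = r • y} := by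
    rw [h.span]; trivial
  induction hy using AddSubgroup.closure_induction with
  | mem x hx =>
    obtain ⟨r, y, hy, rfl⟩ := hx
    exact (AddSubgroup.zmultiples_le_of_mem (h.VR_inv r h.w0_mem)) (h.K_orb hk r hy)
  | zero => rw [smul_zero, add_zero]; exact zero_mem _
  | add x y _ _ hx hy =>
    have : k • (x + y) + (x + y) = (k • x + x) + (k • y + y) := by rw [smul_add]; abel
    rw [this]
    exact add_mem hx hy
  | neg x _ hx =>
    have : k • (-x) + (-x) = -(k • x + x) := by rw [smul_neg]; abel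
    rw [this]
    exact neg_mem hx

theorem B_w0 {b : R} (hb : b ∈ B) : b • w₀ = w₀ := h.Tw b (h.BT hb)

theorem swap {c : R} (hc : c ∈ B) (hcK : c ∉ K) : c • w₁ = w₂ ∧ c • w₂ = w₁ := by
  have h1 : c • w₁ = w₂ := by
    rcases h.orb c (Or.inr (Or.inl rfl) : w₁ = w₀ ∨ w₁ = w₁ ∨ w₁ = w₂) with h1 | h1 | h1
    · exact absurd (smul_left_cancel c (h1.trans (h.B_w0 hc).symm)) h.ne01.symm
    · exact absurd (h.BK c hc h1) hcK
    · exact h1
  refine ⟨h1, ?_⟩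
  rw [← h.add1, smul_add, h.B_w0 hc, h1, h.add2]

theorem mem_B1 {b : R} (hb : b ∈ B) : b ∈ B ⊓ K ↔ b • w₁ = w₁ :=
  ⟨fun h1 => h.K_VR h1.2 w1_mem, fun h1 => ⟨hb, h.BK b hb h1⟩⟩

theorem relIndex_B1 : (B ⊓ K).relIndex B = 2 := by
  obtain ⟨c, hc, hcK⟩ := SetLike.not_le_iff_exists.1 h.nle
  obtain ⟨h1, h3⟩ := h.swap hc hcK
  rw [Subgroup.relIndex_eq_two_iff]
  refine ⟨c, hc, fun b hb => ?_⟩
  by_cases hbK : b ∈ K
  · right
    refine ⟨⟨hb, hbK⟩, fun h4 => ?_⟩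
    rw [h.mem_B1 (mul_mem hb hc), mul_smul, h1, h.K_VR hbK w2_mem] at h4
    exact h.ne h4.symm
  · left
    refine ⟨?_, fun h4 => hbK h4.2⟩
    rw [h.mem_B1 (mul_mem hb hc), mul_smul, h1]
    exact (h.swap hb hbK).2

theorem kr_relIndex : (kr R Y).relIndex B = 2 * (kr R Y).relIndex (B ⊓ K) := by
  have := h.finR
  have h1 : kr R Y ⊓ B = kr R Y ⊓ (B ⊓ K) := by
    apply le_antisymm
    · intro x hx
      exact ⟨hx.1, (h.mem_B1 hx.2).2 (hx.1 w₁)⟩
    · exact inf_le_inf_left _ inf_le_left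
  rw [← Subgroup.inf_relIndex_right (kr R Y) B, h1, ← Subgroup.inf_relIndex_right (kr R Y) (B ⊓ K),
    ← Subgroup.relIndex_mul_relIndex _ (B ⊓ K) B inf_le_right inf_le_left, h.relIndex_B1, mul_comm]

/-- `Z_i` -/
def ZZ (_ : Sit T K B P w₀ w₁ w₂) (w : Y) : AddSubgroup Y where
  carrier := {y | ∀ k ∈ B ⊓ K, k • y + y ∈ AddSubgroup.zmultiples w}
  zero_mem' := fun k _ => by rw [smul_zero, add_zero]; exact zero_mem _
  add_mem' := by
    intro x y hx hy k hk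
    have : k • (x + y) + (x + y) = (k • x + x) + (k • y + y) := by rw [smul_add]; abel
    rw [this]
    exact add_mem (hx k hk) (hy k hk)
  neg_mem' := by
    intro x hx k hk
    have : k • (-x) + (-x) = -(k • x + x) := by rw [smul_neg]; abel
    rw [this]
    exact neg_mem (hx k hk)

theorem le_ZZ (w : Y) : fx Y (B ⊓ K) ≤ h.ZZ w := by
  intro y hy k hk
  rw [hy k hk, h.two]
  exact zero_mem _

theorem index_ZZ {w w' : Y} (hw : (w = w₁ ∧ w' = w₂) ∨ (w = w₂ ∧ w' = w₁)) :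
    (kr R Y).relIndex (B ⊓ K) ≤ (h.ZZ w).index := by
  have := h.finR
  have := h.finY
  obtain ⟨c, hc, hcK⟩ := SetLike.not_le_iff_exists.1 h.nle
  have h1 : c • w' = w ∧ w ≠ w' ∧ w ≠ 0 ∧ w' ≠ 0 := by
    rcases hw with ⟨rfl, rfl⟩ | ⟨rfl, rfl⟩
    · exact ⟨(h.swap hc hcK).2, h.ne, h.ne1, h.ne2⟩
    · exact ⟨(h.swap hc hcK).1, h.ne.symm, h.ne2, h.ne1⟩
  obtain ⟨h1, h3, h4, h5⟩ := h1
  apply pair_le (P := VR w₁ w₂) (W := AddSubgroup.zmultiples w) h.two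
  · intro x hx y hy hxW hyW
    rw [mem_zm h.two] at hxW hyW ⊢
    have e1 := h.add1
    have e2 := h.add2
    have e3 := h.sum
    rcases h.mem_VR hx with rfl | rfl | rfl | rfl <;> rcases h.mem_VR hy with rfl | rfl | rfl | rfl <;>
      rcases hw with ⟨rfl, rfl⟩ | ⟨rfl, rfl⟩ <;>
      first
        | exact Or.inl (h.two _)
        | (exfalso; exact hxW (Or.inl rfl))
        | (exfalso; exact hxW (Or.inr rfl))
        | (exfalso; exact hyW (Or.inl rfl))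
        | (exfalso; exact hyW (Or.inr rfl))
        | exact Or.inr e1
        | exact Or.inr e2
        | exact Or.inr ((add_comm _ _).trans e1)
        | exact Or.inr ((add_comm _ _).trans e2)
  · intro b hb y
    exact h.K_all hb.2 y
  · intro b hb x hx
    exact h.K_VR hb.2 hx
  · intro b hb hy y
    have h6 := hy y
    have h7 := hy (c • y)
    have h8 : b • c • y + c • y = c • (b • y + y) := by
      rw [smul_add, ← mul_smul, ← mul_smul, h.comm b hb.1 c hc]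
    rw [h8, mem_zm h.two] at h7
    rw [mem_zm h.two] at h6
    have h9 : b • y + y = 0 := by
      rcases h6 with h6 | h6
      · exact h6
      · rw [h6] at h7
        rcases h7 with h7 | h7
        · exact absurd ((smul_eq_zero_iff_eq c).1 h7) h4
        · exact absurd (smul_left_cancel c (h7.trans h1.symm)) h3
    have h10 : b • y = b • y + y + y := by rw [add_assoc, h.two, add_zero]
    rw [h10, h9, zero_add]
  · intro y hy b hb
    exact hy b hb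

theorem main_index : (∀ w, w = w₁ ∨ w = w₂ → h.ZZ w ≤ fx Y (B ⊓ K)) ∧
    (fx Y B).relIndex (fx Y (B ⊓ K)) = 2 ∧ (kr R Y).relIndex B ≤ (fx Y B).index := by
  have := h.finR
  have := h.finY
  obtain ⟨c, hc, hcK⟩ := SetLike.not_le_iff_exists.1 h.nle
  have hle : fx Y B ≤ fx Y (B ⊓ K) := fun y hy b hb => hy b hb.1
  have h1 : 2 ≤ (fx Y B).relIndex (fx Y (B ⊓ K)) := by
    have p1 : (fx Y B).relIndex (fx Y (B ⊓ K)) ≠ 0 :=
      (AddSubgroup.index_ne_zero_of_finite : ((fx Y B).addSubgroupOf (fx Y (B ⊓ K))).index ≠ 0)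
    have p2 : (fx Y B).relIndex (fx Y (B ⊓ K)) ≠ 1 := by
      intro e
      rw [AddSubgroup.relIndex_eq_one] at e
      have h3 : w₁ ∈ fx Y B := e fun b hb => h.K_VR hb.2 w1_mem
      exact h.ne ((h3 c hc).symm.trans (h.swap hc hcK).1)
    omega
  have h3 := AddSubgroup.relIndex_mul_index hle
  have h4 := h.card
  rw [h.kr_relIndex] at h4
  have key : ∀ w w', (w = w₁ ∧ w' = w₂) ∨ (w = w₂ ∧ w' = w₁) → (fx Y (B ⊓ K)).index ≤ (h.ZZ w).index ∧
      (fx Y B).relIndex (fx Y (B ⊓ K)) ≤ 2 ∧ h.ZZ w ≤ fx Y (B ⊓ K) := by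
    intro w w' hw
    have h5 := h.index_ZZ hw
    have h6 := AddSubgroup.relIndex_mul_index (h.le_ZZ w)
    have p0 : 0 < (fx Y (B ⊓ K)).index := Nat.pos_of_ne_zero AddSubgroup.index_ne_zero_of_finite
    have p1 : 0 < (h.ZZ w).index := Nat.pos_of_ne_zero AddSubgroup.index_ne_zero_of_finite
    have p2 : 0 < (fx Y (B ⊓ K)).relIndex (h.ZZ w) := Nat.pos_of_ne_zero
      (AddSubgroup.index_ne_zero_of_finite : ((fx Y (B ⊓ K)).addSubgroupOf (h.ZZ w)).index ≠ 0)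
    have h7 : (fx Y (B ⊓ K)).index ≤ (h.ZZ w).index := by nlinarith
    have h8 : (h.ZZ w).index ≤ (fx Y (B ⊓ K)).index := by nlinarith
    refine ⟨h7, ?_, ?_⟩
    · have h9 : (fx Y B).relIndex (fx Y (B ⊓ K)) * (fx Y (B ⊓ K)).index ≤ 2 * (fx Y (B ⊓ K)).index := by
        rw [h3]
        exact h4.trans (Nat.mul_le_mul_left _ (h5.trans h8))
      exact Nat.le_of_mul_le_mul_right h9 p0
    · rw [← AddSubgroup.relIndex_eq_one]
      have h9 : (fx Y (B ⊓ K)).relIndex (h.ZZ w) * (h.ZZ w).index ≤ 1 * (h.ZZ w).index := by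
        rw [h6, one_mul]
        exact h7
      have h10 := Nat.le_of_mul_le_mul_right h9 p1
      omega
  have key2 := (key _ _ (Or.inl ⟨rfl, rfl⟩))
  refine ⟨?_, le_antisymm key2.2.1 h1, ?_⟩
  · rintro w (rfl | rfl)
    · exact key2.2.2
    · exact (key _ _ (Or.inr ⟨rfl, rfl⟩)).2.2
  · rw [h.kr_relIndex, ← h3, le_antisymm key2.2.1 h1]
    have h5 := h.index_ZZ (Or.inl ⟨rfl, rfl⟩)
    have h6 : (h.ZZ w₁).index ≤ (fx Y (B ⊓ K)).index := by
      have h7 := AddSubgroup.relIndex_mul_index (h.le_ZZ w₁)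
      have p1 : 0 < (h.ZZ w₁).index := Nat.pos_of_ne_zero AddSubgroup.index_ne_zero_of_finite
      have p2 : 0 < (fx Y (B ⊓ K)).relIndex (h.ZZ w₁) := Nat.pos_of_ne_zero
        (AddSubgroup.index_ne_zero_of_finite : ((fx Y (B ⊓ K)).addSubgroupOf (h.ZZ w₁)).index ≠ 0)
      nlinarith
    exact Nat.mul_le_mul_left _ (h5.trans h6)

theorem orb_mem {d : R} (hd : d • w₀ ≠ w₀) {y : Y} (hy : y ∈ P) : d • y ∈ fx Y (B ⊓ K) := by
  have h1 : d • w₀ = w₁ ∨ d • w₀ = w₂ := (h.perm d).resolve_left hd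
  exact h.main_index.1 _ h1 fun k hk => h.K_orb hk.2 d hy

theorem c_mem {c : R} (hc : c ∈ B) (hcK : c ∉ K) {y : Y} (hy : y ∈ fx Y (B ⊓ K)) : c • y + y ∈ VR w₁ w₂ := by
  by_cases h1 : y ∈ fx Y B
  · rw [h1 c hc, h.two]
    exact zero_mem _
  · have h3 : ((fx Y B).addSubgroupOf (fx Y (B ⊓ K))).index = 2 := h.main_index.2.1
    have hw : w₁ ∈ fx Y (B ⊓ K) := fun b hb => h.K_VR hb.2 w1_mem
    have h4 : w₁ ∉ fx Y B := fun h5 => h.ne ((h5 c hc).symm.trans (h.swap hc hcK).1)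
    have h5 : y + w₁ ∈ fx Y B := by
      have h6 := (AddSubgroup.add_mem_iff_of_index_two h3 (a := ⟨y, hy⟩) (b := ⟨w₁, hw⟩)).2
        ⟨fun h7 => absurd h7 h1, fun h7 => absurd h7 h4⟩
      exact h6
    have h6 := h5 c hc
    rw [smul_add, (h.swap hc hcK).1] at h6
    have h7 : c • y + y = w₁ + w₂ := by
      have h8 : c • y + w₂ + (w₂ + y) = y + w₁ + (w₂ + y) := by rw [h6]
      have h9 : c • y + w₂ + (w₂ + y) = c • y + y := by
        rw [add_assoc, ← add_assoc w₂, h.two, zero_add]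
      have h10 : y + w₁ + (w₂ + y) = w₁ + w₂ + (y + y) := by abel
      rw [h9, h10, h.two, add_zero] at h8
      exact h8
    rw [h7]
    exact add_mem w1_mem w2_mem

/-- **helper347, #22022 (2)**: `P ≤ C_Y(B ⊓ K)`, and some `g` with `g • w₀ ≠ w₀` normalises `P`. -/
theorem main : (∀ y ∈ P, ∀ b ∈ B, b ∈ K → b • y = y) ∧ (∃ g : R, g • w₀ ≠ w₀ ∧ ∀ y ∈ P, g • y + y ∈ P) := by
  obtain ⟨c, hc, hcK⟩ := SetLike.not_le_iff_exists.1 h.nle
  obtain ⟨d, hd⟩ := h.tr1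
  have h1 : d • w₀ ≠ w₀ := by rw [hd]; exact h.ne01.symm
  set g : R := d⁻¹ * c * d with hg
  have h4 : ∀ y ∈ P, g • y + y ∈ VR w₁ w₂ := by
    intro y hy
    have h5 := h.VR_inv d⁻¹ (h.c_mem hc hcK (h.orb_mem h1 hy))
    rw [smul_add, ← mul_smul, ← mul_smul, inv_smul_smul] at h5
    exact h5
  have h5 : g • w₀ ≠ w₀ := by
    intro e
    rw [hg, mul_smul, mul_smul, hd, inv_smul_eq_iff, hd] at e
    exact h.ne (e.symm.trans (h.swap hc hcK).1)
  refine ⟨fun y hy b hb hbK => ?_, g, h5, fun y hy => h.VR_le (h4 y hy)⟩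
  have h6 := h.orb_mem h5 hy
  have h7 : y ∈ fx Y (B ⊓ K) := by
    have h8 : y = g • y + (g • y + y) := by rw [← add_assoc, h.two, zero_add]
    rw [h8]
    exact add_mem h6 fun b hb => h.K_VR hb.2 (h4 y hy)
  exact h7 b ⟨hb, hbK⟩

end Sit

end Cfsg.Agent.Omega.NO3S.SN2.BpAbs

end

section


/-!
# SN.Two, THEOREM (C+) (helper933, #22887), part A: calculus of commutators, counting lemmas

`pz z i` : `z ^ i` for `i : ZMod 2`; `Cm b e w` : `[b, e] = w`; `zv`, `zt` : products of `pz`.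
-/

set_option autoImplicit false
set_option linter.unusedSectionVars false

namespace Cfsg.Agent.Omega.NO3S.SN2.CPlus

open Subgroup

universe u

variable {G : Type u} [Group G]

/-- `z ^ i` -/
def pz (z : G) (i : ZMod 2) : G := if i = 0 then 1 else z

theorem h01 : ∀ i : ZMod 2, i = 0 ∨ i = 1 := by decide

theorem pz_zero (z : G) : pz z 0 = 1 := if_pos rfl

theorem pz_one (z : G) : pz z 1 = z := if_neg one_ne_zero

theorem one_pz (i : ZMod 2) : pz (1 : G) i = 1 := by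
  rcases h01 i with rfl | rfl
  · exact pz_zero _
  · exact pz_one _

theorem two0 : (1 : ZMod 2) + 1 = 0 := by decide

theorem add_eq_zero2 {i j : ZMod 2} (h : i + j = 0) : i = j := by
  revert i j
  decide

theorem pz_mul {z : G} (hz : z * z = 1) (i j : ZMod 2) : pz z i * pz z j = pz z (i + j) := by
  rcases h01 i with rfl | rfl
  · rw [pz_zero, one_mul, zero_add]
  · rcases h01 j with rfl | rfl
    · rw [pz_zero, mul_one, add_zero]
    · rw [pz_one, hz, two0, pz_zero]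

theorem pz_mem {H : Subgroup G} {z : G} (hz : z ∈ H) (i : ZMod 2) : pz z i ∈ H := by
  rcases h01 i with rfl | rfl
  · rw [pz_zero]; exact H.one_mem
  · rw [pz_one]; exact hz

theorem pz_conj (g z : G) (i : ZMod 2) : g * pz z i * g⁻¹ = pz (g * z * g⁻¹) i := by
  rcases h01 i with rfl | rfl
  · rw [pz_zero, pz_zero, mul_one, mul_inv_cancel]
  · rw [pz_one, pz_one]

theorem pz_pz {z : G} (i j : ZMod 2) : pz (pz z i) j = pz z (j * i) := by
  rcases h01 j with rfl | rfl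
  · rw [pz_zero, zero_mul, pz_zero]
  · rw [pz_one, one_mul]

/-- `(pq)(rs) = (pr)(qs)` -/
theorem mmmc {p q r s : G} (h : q * r = r * q) : (p * q) * (r * s) = (p * r) * (q * s) := by
  rw [mul_assoc, ← mul_assoc q, h, mul_assoc r, ← mul_assoc]

/-- `z1 ^ i z2 ^ j z3 ^ k` -/
def zv (z1 z2 z3 : G) (i j k : ZMod 2) : G := pz z1 i * pz z2 j * pz z3 k

section zv

variable {U : Subgroup G} (ab : ∀ u ∈ U, ∀ v ∈ U, u * v = v * u) (sq : ∀ u ∈ U, u * u = 1)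
  {z1 z2 z3 : G} (h1 : z1 ∈ U) (h2 : z2 ∈ U) (h3 : z3 ∈ U)
include ab sq h1 h2 h3

omit ab sq in
theorem zv_mem (i j k : ZMod 2) : zv z1 z2 z3 i j k ∈ U :=
  U.mul_mem (U.mul_mem (pz_mem h1 i) (pz_mem h2 j)) (pz_mem h3 k)

theorem zv_mul (i j k i' j' k' : ZMod 2) :
    zv z1 z2 z3 i j k * zv z1 z2 z3 i' j' k' = zv z1 z2 z3 (i + i') (j + j') (k + k') := by
  rw [zv, zv, zv, mmmc (ab _ (pz_mem h3 k) _ (U.mul_mem (pz_mem h1 i') (pz_mem h2 j'))),
    mmmc (ab _ (pz_mem h2 j) _ (pz_mem h1 i')), pz_mul (sq _ h1), pz_mul (sq _ h2), pz_mul (sq _ h3)]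

end zv

theorem zv_conj (g : G) {z1 z2 z3 : G} (i j k : ZMod 2) :
    g * zv z1 z2 z3 i j k * g⁻¹ = zv (g * z1 * g⁻¹) (g * z2 * g⁻¹) (g * z3 * g⁻¹) i j k := by
  rw [zv, zv, ← pz_conj, ← pz_conj, ← pz_conj]
  group

theorem zv_zero (z1 z2 z3 : G) : zv z1 z2 z3 0 0 0 = 1 := by
  rw [zv, pz_zero, pz_zero, pz_zero, one_mul, one_mul]

theorem pz_zv (z1 z2 z3 : G) (i j k p : ZMod 2) : pz (zv z1 z2 z3 i j k) p = zv z1 z2 z3 (p * i) (p * j) (p * k) := by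
  rcases h01 p with rfl | rfl
  · rw [pz_zero, zero_mul, zero_mul, zero_mul, zv_zero]
  · rw [pz_one, one_mul, one_mul, one_mul]

/-- `[b, e] = w` -/
def Cm (b e w : G) : Prop := b * e * b⁻¹ = e * w

namespace Cm

variable {b b' e f w w' : G}

theorem self (b e : G) : Cm b e (e⁻¹ * (b * e * b⁻¹)) := by
  rw [Cm, mul_inv_cancel_left]

theorem uniq (h : Cm b e w) (h' : Cm b e w') : w = w' := mul_left_cancel (Eq.trans h.symm h')

theorem mul (h : Cm b e w) (h' : Cm b f w') (hc : w * f = f * w) : Cm b (e * f) (w * w') := by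
  rw [Cm] at h h' ⊢
  calc b * (e * f) * b⁻¹ = (b * e * b⁻¹) * (b * f * b⁻¹) := by group
    _ = e * (w * f) * w' := by rw [h, h']; group
    _ = e * f * (w * w') := by rw [hc]; group

theorem conj (g : G) (h : Cm b e w) : Cm (g * b * g⁻¹) (g * e * g⁻¹) (g * w * g⁻¹) := by
  rw [Cm] at h ⊢
  calc g * b * g⁻¹ * (g * e * g⁻¹) * (g * b * g⁻¹)⁻¹ = g * (b * e * b⁻¹) * g⁻¹ := by group
    _ = g * e * g⁻¹ * (g * w * g⁻¹) := by rw [h]; group

theorem comp (h : Cm b e w) (h' : Cm b' e w') (hc : b * w' = w' * b) : Cm (b * b') e (w * w') := by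
  rw [Cm] at h h' ⊢
  calc b * b' * e * (b * b')⁻¹ = b * (b' * e * b'⁻¹) * b⁻¹ := by group
    _ = (b * e * b⁻¹) * (b * w' * b⁻¹) := by rw [h']; group
    _ = e * (w * w') := by rw [h, hc, mul_inv_cancel_right, mul_assoc]

theorem one_iff : Cm b e 1 ↔ b * e = e * b := by
  rw [Cm, mul_one, mul_inv_eq_iff_eq_mul]

theorem one (b : G) : Cm b 1 1 := by
  rw [Cm]; group

theorem pz (h : Cm b e w) (i : ZMod 2) : Cm b (pz e i) (pz w i) := by
  rcases h01 i with rfl | rfl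
  · rw [pz_zero, pz_zero]; exact one b
  · rw [pz_one, pz_one]; exact h

theorem inv (h : Cm b e w) (hc : w * e = e * w) : Cm b e⁻¹ w⁻¹ := by
  rw [Cm] at h ⊢
  calc b * e⁻¹ * b⁻¹ = (b * e * b⁻¹)⁻¹ := by group
    _ = (w * e)⁻¹ := by rw [h, hc]
    _ = _ := by group

theorem comm_eq (h : Cm b e w) (hc : w * e = e * w) : b * e * b⁻¹ * e⁻¹ = w := by
  rw [Cm] at h
  rw [h, ← hc, mul_inv_cancel_right]

end Cm

/-! ## Counting -/

theorem card_ge {ι : Type} [Finite ι] [Finite G] {L : Subgroup G} (g : ι → G) (hg : ∀ i, g i ∈ L)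
    (hi : Function.Injective g) : Nat.card ι ≤ Nat.card L :=
  Nat.card_le_card_of_injective (fun i => (⟨g i, hg i⟩ : L)) fun _ _ h => hi (congrArg Subtype.val h)

theorem sep_card {ι : Type*} [Finite ι] [Finite G] {E F : Subgroup G} (hFE : F ≤ E) (g : ι → G) (hg : ∀ i, g i ∈ E)
    (hi : ∀ i j, (g i)⁻¹ * g j ∈ F → i = j) : Nat.card ι * Nat.card F ≤ Nat.card E := by
  rw [← Nat.card_prod]
  refine Nat.card_le_card_of_injective (fun p : ι × F => (⟨g p.1 * p.2, E.mul_mem (hg _) (hFE p.2.2)⟩ : E)) ?_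
  rintro ⟨i, x⟩ ⟨j, y⟩ h
  have h1 : g i * x = g j * y := congrArg Subtype.val h
  have h2 : i = j := by
    apply hi
    have h3 : (g i)⁻¹ * g j = x * (y : G)⁻¹ := by
      rw [inv_mul_eq_iff_eq_mul, ← mul_assoc, h1, mul_inv_cancel_right]
    rw [h3]
    exact F.mul_mem x.2 (F.inv_mem y.2)
  subst h2
  have h3 : x = y := Subtype.ext (mul_left_cancel h1)
  rw [h3]

theorem map_card {ι : Type*} [Finite ι] [Finite G] {B F : Subgroup G} (φ : G → ι)
    (hφ : ∀ b ∈ B, ∀ b' ∈ B, φ b = φ b' → b⁻¹ * b' ∈ F) : Nat.card B ≤ Nat.card ι * Nat.card F := by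
  classical
  rw [← Nat.card_prod]
  have hch : ∀ i : ι, ∃ g : G, (∃ b ∈ B, φ b = i) → g ∈ B ∧ φ g = i := fun i => by
    by_cases h : ∃ b ∈ B, φ b = i
    · obtain ⟨b, hb, hi⟩ := h
      exact ⟨b, fun _ => ⟨hb, hi⟩⟩
    · exact ⟨1, fun h' => absurd h' h⟩
  choose g hg using hch
  have hgb : ∀ b : B, (g (φ b))⁻¹ * b ∈ F := fun b => by
    obtain ⟨h1, h2⟩ := hg (φ b) ⟨b, b.2, rfl⟩
    exact hφ _ h1 _ b.2 h2
  refine Nat.card_le_card_of_injective (fun b : B => ((φ b, ⟨_, hgb b⟩) : ι × F)) ?_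
  intro b b' h
  obtain ⟨h1, h2⟩ := Prod.mk.inj h
  have h3 : (g (φ b))⁻¹ * (b : G) = (g (φ b'))⁻¹ * b' := congrArg Subtype.val h2
  rw [h1] at h3
  exact Subtype.ext (mul_left_cancel h3)

section

variable {U : Subgroup G} (ab : ∀ u ∈ U, ∀ v ∈ U, u * v = v * u) (sq : ∀ u ∈ U, u * u = 1)
include ab sq

theorem zv_inv_mul {z1 z2 z3 : G} (h1 : z1 ∈ U) (h2 : z2 ∈ U) (h3 : z3 ∈ U) (i j k i' j' k' : ZMod 2) :
    (zv z1 z2 z3 i j k)⁻¹ * zv z1 z2 z3 i' j' k' = zv z1 z2 z3 (i + i') (j + j') (k + k') := by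
  rw [← zv_mul ab sq h1 h2 h3, inv_eq_of_mul_eq_one_left (sq _ (zv_mem h1 h2 h3 i j k))]

theorem octo [Finite G] {E F : Subgroup G} (hEU : E ≤ U) (hFE : F ≤ E) {e1 e2 e3 : G} (h1 : e1 ∈ E) (h2 : e2 ∈ E)
    (h3 : e3 ∈ E) (h : ∀ x y s : ZMod 2, pz e1 x * pz e2 y * pz e3 s ∈ F → x = 0 ∧ y = 0 ∧ s = 0) :
    8 * Nat.card F ≤ Nat.card E := by
  have h4 := sep_card (ι := ZMod 2 × ZMod 2 × ZMod 2) hFE (fun p => zv e1 e2 e3 p.1 p.2.1 p.2.2)
    (fun p => zv_mem h1 h2 h3 _ _ _) (by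
      rintro ⟨i, j, k⟩ ⟨i', j', k'⟩ h5
      rw [zv_inv_mul ab sq (hEU h1) (hEU h2) (hEU h3)] at h5
      obtain ⟨a1, a2, a3⟩ := h _ _ _ h5
      have b1 : i = i' := add_eq_zero2 a1
      have b2 : j = j' := add_eq_zero2 a2
      have b3 : k = k' := add_eq_zero2 a3
      rw [b1, b2, b3])
  have h5 : Nat.card (ZMod 2 × ZMod 2 × ZMod 2) = 8 := by
    rw [Nat.card_eq_fintype_card]; decide
  rwa [h5] at h4

theorem quad [Finite G] {E F : Subgroup G} (hEU : E ≤ U) (hFE : F ≤ E) {e1 e2 : G} (h1 : e1 ∈ E) (h2 : e2 ∈ E)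
    (h : ∀ x y : ZMod 2, pz e1 x * pz e2 y ∈ F → x = 0 ∧ y = 0) :
    4 * Nat.card F ≤ Nat.card E := by
  have h4 := sep_card (ι := ZMod 2 × ZMod 2) hFE (fun p => zv e1 e2 1 p.1 p.2 0)
    (fun p => zv_mem h1 h2 (one_mem _) _ _ _) (by
      rintro ⟨i, j⟩ ⟨i', j'⟩ h5
      rw [zv_inv_mul ab sq (hEU h1) (hEU h2) (one_mem _), zv, one_pz, mul_one] at h5
      obtain ⟨a1, a2⟩ := h _ _ h5
      have b1 : i = i' := add_eq_zero2 a1
      have b2 : j = j' := add_eq_zero2 a2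
      rw [b1, b2])
  have h5 : Nat.card (ZMod 2 × ZMod 2) = 4 := by
    rw [Nat.card_eq_fintype_card]; decide
  rwa [h5] at h4

omit sq in
/-- `[X, c]` is a subgroup, and `|[X, c]| |C_X(c)| ≤ |X|` -/
theorem lam [Finite G] {X : Subgroup G} (hXU : X ≤ U) {c : G} (hcX : ∀ x ∈ X, c * x * c⁻¹ ∈ X) :
    ∃ L : Subgroup G, (∀ x ∈ X, ∀ w, Cm c x w → w ∈ L) ∧ L ≤ X ∧
      Nat.card L * Nat.card ↥(X ⊓ centralizer ({c} : Set G)) ≤ Nat.card X := by
  have hw : ∀ x ∈ X, ∀ w, Cm c x w → w ∈ X := by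
    intro x hx w h
    have h1 : w = x⁻¹ * (c * x * c⁻¹) := h.uniq (Cm.self c x)
    rw [h1]
    exact X.mul_mem (X.inv_mem hx) (hcX x hx)
  have hcc : ∀ x ∈ X, ∀ y ∈ X, x * y = y * x := fun x hx y hy => ab x (hXU hx) y (hXU hy)
  let L : Subgroup G :=
    { carrier := {w | ∃ x ∈ X, Cm c x w}
      mul_mem' := by
        rintro w w' ⟨x, hx, h⟩ ⟨x', hx', h'⟩
        exact ⟨x * x', X.mul_mem hx hx', h.mul h' (hcc _ (hw x hx w h) _ hx')⟩
      one_mem' := ⟨1, X.one_mem, Cm.one c⟩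
      inv_mem' := by
        rintro w ⟨x, hx, h⟩
        exact ⟨x⁻¹, X.inv_mem hx, h.inv (hcc _ (hw x hx w h) _ hx)⟩ }
  refine ⟨L, fun x hx w h => ⟨x, hx, h⟩, ?_, ?_⟩
  · rintro w ⟨x, hx, h⟩
    exact hw x hx w h
  · have hL : ∀ w : L, ∃ x ∈ X, Cm c x w := fun w => w.2
    choose g hg hgw using hL
    refine sep_card inf_le_left g hg fun w w' h => ?_
    apply Subtype.ext
    have h1 : Cm c ((g w)⁻¹ * g w') 1 := by
      rw [Cm.one_iff]
      exact mem_centralizer_iff.1 h.2 c rfl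
    have h2 := (hgw w).mul h1 (hcc _ (hw _ (hg w) _ (hgw w)) _ (X.mul_mem (X.inv_mem (hg w)) (hg w')))
    rw [mul_inv_cancel_left, mul_one] at h2
    exact h2.uniq (hgw w')

omit sq in
/-- commutators with a closure -/
theorem comm_closure {S : Set G} {P : Subgroup G} {b : G} (hS : ∀ e ∈ S, e ∈ U) (hP : P ≤ U)
    (h : ∀ e ∈ S, b * e * b⁻¹ * e⁻¹ ∈ P) : ∀ e ∈ closure S, b * e * b⁻¹ * e⁻¹ ∈ P := by
  have hSU : closure S ≤ U := (closure_le _).2 hS
  intro e he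
  induction he using closure_induction with
  | mem e he => exact h e he
  | one =>
    have : b * 1 * b⁻¹ * 1⁻¹ = (1 : G) := by group
    rw [this]; exact P.one_mem
  | mul x y hx hy h1 h2 =>
    rw [SN2.comm_mul (ab _ (hSU hx) _ (hP h2))]
    exact P.mul_mem h1 h2
  | inv x hx h1 =>
    have h3 : b * x⁻¹ * b⁻¹ * x⁻¹⁻¹ = x⁻¹ * (b * x * b⁻¹ * x⁻¹)⁻¹ * x := by
      group
    have h4 : (b * x * b⁻¹ * x⁻¹)⁻¹ ∈ P := P.inv_mem h1
    rw [h3, ab _ (U.inv_mem (hSU hx)) _ (hP h4), inv_mul_cancel_right]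
    exact h4

end

theorem mem_zpowers2 {x y : G} (hx : x * x = 1) : y ∈ zpowers x ↔ y = 1 ∨ y = x := by
  constructor
  · intro h
    obtain ⟨n, rfl⟩ := mem_zpowers_iff.1 h
    rcases Int.even_or_odd n with ⟨k, hk⟩ | ⟨k, hk⟩
    · left
      rw [hk, zpow_add, ← (Commute.refl x).mul_zpow, hx, one_zpow]
    · right
      rw [hk, zpow_add, zpow_mul, zpow_two, hx, one_zpow, zpow_one, one_mul]
  · rintro (h | h)
    · rw [h]; exact one_mem _
    · rw [h]; exact mem_zpowers x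

end Cfsg.Agent.Omega.NO3S.SN2.CPlus

end

section


/-!
# SN.Two, THEOREM (C+) (helper933, #22887), part B: the situation `CP`, step (0)

Notation: `u2 = u₁₂`, `u3 = u₁₃`, `z1, z2, z3` the vectors of the letters `1, 2, 3`, `T = ⟨Q, t⟩` over the duad `12`,
`C = C_T(W₁₂)`, `R` a parabolic over `T`, `N = N_R(V)`, `A` exact for `(13)`, `B = C_A(V)`, `a ∈ A - B`.
-/

set_option autoImplicit false
set_option linter.unusedSectionVars false

namespace Cfsg.Agent.Omega.NO3S.SN2.CPlus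

open Subgroup

universe u

variable {G : Type u} [Group G]

/-- `⟨u₁₂, z₁, z₂, z₃⟩` -/
def Zs (u2 z1 z2 z3 : G) : Subgroup G := closure {u2, z1, z2, z3}

/-- The situation of THEOREM (C+). -/
structure CP (V Q T C R N B U : Subgroup G) (a t z1 z2 z3 u2 u3 : G) (f12 f21 f13 f31 : G → ZMod 2) : Prop where
  ab : ∀ u ∈ U, ∀ v ∈ U, u * v = v * u
  sq : ∀ u ∈ U, u * u = 1
  VU : V ≤ U
  u2U : u2 ∈ U
  au2U : a * u2 * a⁻¹ ∈ U
  box : ∀ r ∈ R, r * u3 * r⁻¹ ∈ U ∧ a * (r * u3 * r⁻¹) * a⁻¹ ∈ U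
  z1V : z1 ∈ V
  z2V : z2 ∈ V
  z3V : z3 ∈ V
  ind : ∀ i j k : ZMod 2, pz z1 i * pz z2 j * pz z3 k = 1 → i = 0 ∧ j = 0 ∧ k = 0
  az1 : a * z1 * a⁻¹ = z3
  az2 : a * z2 * a⁻¹ = z2
  az3 : a * z3 * a⁻¹ = z1
  aV : ∀ v ∈ V, a * v * a⁻¹ ∈ V
  aQ : ∀ q ∈ Q, a * q * a⁻¹ ∈ Q
  aa : a * a = 1
  aB : ∀ b ∈ B, a * b = b * a
  Bab : ∀ b ∈ B, ∀ b' ∈ B, b * b' = b' * b
  BQ : B ≤ Q
  Qc : ∀ q ∈ Q, ∀ v ∈ V, q * v = v * q
  h12 : ∀ q ∈ Q, q * u2 * q⁻¹ = u2 * (pz z1 (f12 q) * pz z2 (f21 q))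
  h13 : ∀ q ∈ Q, q * u3 * q⁻¹ = u3 * (pz z1 (f13 q) * pz z3 (f31 q))
  on12 : ∃ q ∈ Q, f12 q = 1
  on13 : ∃ q ∈ Q, f13 q = 1
  on31 : ∃ q ∈ Q, f31 q = 1
  QT : Q ≤ T
  TR : T ≤ R
  TN : T ≤ N
  TQ : ∀ t ∈ T, ∀ q ∈ Q, t * q * t⁻¹ ∈ Q
  tT : t ∈ T
  tz1 : t * z1 * t⁻¹ = z2
  tz2 : t * z2 * t⁻¹ = z1
  tu2 : t * u2 * t⁻¹ * u2⁻¹ ∈ V
  Rz3 : ∀ r ∈ R, r * z3 * r⁻¹ = z3
  CQ : C ≤ Q
  CR : ∀ r ∈ R, ∀ c ∈ C, r * c * r⁻¹ ∈ C
  C_iff : ∀ q ∈ Q, q ∈ C ↔ f12 q = 0 ∧ f21 q = 0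
  RZ : ∀ r ∈ R, ∀ w ∈ Zs u2 z1 z2 z3, r * w * r⁻¹ ∈ Zs u2 z1 z2 z3
  mv : ∀ r ∈ R, r ∉ N → r * z1 * r⁻¹ ∉ V
  mvex : ∃ r ∈ R, r ∉ N
  g1 : ∀ r ∈ R, r ∉ N → R ≤ Q ⊔ cj r Q
  /-- exactness -/
  ex : ∀ E : Subgroup G, V ≤ E → E ≤ U → (∀ b ∈ B, ∀ u ∈ E, b * u * b⁻¹ ∈ E) → (∀ u ∈ E, a * u * a⁻¹ ∈ E) →
    Nat.card E * Nat.card ↥(B ⊓ centralizer (E : Set G)) ≤ Nat.card B * Nat.card ↥(E ⊓ centralizer (B : Set G))
  /-- exactness -/
  fix : ∀ E : Subgroup G, V ≤ E → E ≤ U → (∀ b ∈ B, ∀ u ∈ E, b * u * b⁻¹ ∈ E) → (∀ u ∈ E, a * u * a⁻¹ ∈ E) →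
    ∀ u ∈ E, (∀ b ∈ B, b * u = u * b) → a * u * a⁻¹ * u⁻¹ ∈ V

/-- `E` is `B`-invariant, `V ≤ E`, and `E`, `E ^ a ≤ U`. -/
structure Good (V B U : Subgroup G) (a : G) (E : Subgroup G) : Prop where
  VE : V ≤ E
  EU : E ≤ U
  Ea : ∀ e ∈ E, a * e * a⁻¹ ∈ U
  BE : ∀ b ∈ B, ∀ e ∈ E, b * e * b⁻¹ ∈ E

namespace Good

variable {V B U E : Subgroup G} {a : G} (g : Good V B U a E)
include g

theorem XX (aB : ∀ b ∈ B, a * b = b * a) (aa : a * a = 1) : V ≤ E ⊔ cj a E ∧ E ⊔ cj a E ≤ U ∧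
      (∀ b ∈ B, ∀ u ∈ E ⊔ cj a E, b * u * b⁻¹ ∈ E ⊔ cj a E) ∧ (∀ u ∈ E ⊔ cj a E, a * u * a⁻¹ ∈ E ⊔ cj a E) := by
  refine ⟨g.VE.trans le_sup_left, sup_le g.EU ?_, ?_, ?_⟩
  · intro y hy
    obtain ⟨e, he, rfl⟩ := mem_cj.1 hy
    exact g.Ea e he
  · intro b hb u hu
    have h1 : E ⊔ cj a E ≤ (E ⊔ cj a E).comap (MulAut.conj b).toMonoidHom := by
      apply sup_le
      · intro e he
        exact le_sup_left (a := E) (g.BE b hb e he)
      · intro y hy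
        obtain ⟨e, he, rfl⟩ := mem_cj.1 hy
        change b * (a * e * a⁻¹) * b⁻¹ ∈ (E ⊔ cj a E : Subgroup G)
        have h2 := aB b hb
        have h3 : b * (a * e * a⁻¹) * b⁻¹ = a * (b * e * b⁻¹) * a⁻¹ := by
          have h4 : a⁻¹ * b⁻¹ = b⁻¹ * a⁻¹ := by rw [← mul_inv_rev, ← mul_inv_rev, h2]
          calc b * (a * e * a⁻¹) * b⁻¹ = (b * a) * e * (a⁻¹ * b⁻¹) := by group
            _ = (a * b) * e * (b⁻¹ * a⁻¹) := by rw [h2, h4]
            _ = _ := by group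
        rw [h3]
        exact le_sup_right (a := E) (mem_cj.2 ⟨_, g.BE b hb e he, rfl⟩)
    exact h1 hu
  · intro u hu
    have h1 : E ⊔ cj a E ≤ (E ⊔ cj a E).comap (MulAut.conj a).toMonoidHom := by
      apply sup_le
      · intro e he
        exact le_sup_right (a := E) (mem_cj.2 ⟨e, he, rfl⟩)
      · intro y hy
        obtain ⟨e, he, rfl⟩ := mem_cj.1 hy
        change a * (a * e * a⁻¹) * a⁻¹ ∈ (E ⊔ cj a E : Subgroup G)
        have h3 : a * (a * e * a⁻¹) * a⁻¹ = e := by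
          have h4 : a⁻¹ = a := inv_eq_of_mul_eq_one_left aa
          calc a * (a * e * a⁻¹) * a⁻¹ = (a * a) * e * (a⁻¹ * a⁻¹) := by group
            _ = e := by rw [h4, aa, one_mul, mul_one]
        rw [h3]
        exact le_sup_left (a := E) he
    exact h1 hu

end Good

theorem good_closure {V B U : Subgroup G} {a : G} {X : Set G} (VU : V ≤ U) (aV : ∀ v ∈ V, a * v * a⁻¹ ∈ V)
    (hBV : ∀ b ∈ B, ∀ v ∈ V, b * v = v * b) (hX : ∀ x ∈ X, x ∈ U) (hXa : ∀ x ∈ X, a * x * a⁻¹ ∈ U)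
    (hB : ∀ b ∈ B, ∀ x ∈ X, b * x * b⁻¹ ∈ closure ((V : Set G) ∪ X)) : Good V B U a (closure ((V : Set G) ∪ X)) := by
  have hV : V ≤ closure ((V : Set G) ∪ X) := fun v hv => subset_closure (Or.inl hv)
  refine ⟨hV, ?_, ?_, ?_⟩
  · rw [closure_le]
    rintro x (hx | hx)
    · exact VU hx
    · exact hX x hx
  · intro e he
    have h1 : closure ((V : Set G) ∪ X) ≤ U.comap (MulAut.conj a).toMonoidHom := by
      rw [closure_le]
      rintro x (hx | hx)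
      · exact VU (aV x hx)
      · exact hXa x hx
    exact h1 he
  · intro b hb e he
    have h1 : closure ((V : Set G) ∪ X) ≤ (closure ((V : Set G) ∪ X)).comap (MulAut.conj b).toMonoidHom := by
      rw [closure_le]
      rintro x (hx | hx)
      · change b * x * b⁻¹ ∈ closure ((V : Set G) ∪ X)
        rw [hBV b hb x hx, mul_inv_cancel_right]
        exact hV hx
      · exact hB b hb x hx
    exact h1 he

namespace CP

variable {V Q T C R N B U : Subgroup G} {a t z1 z2 z3 u2 u3 : G} {f12 f21 f13 f31 : G → ZMod 2}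
  (h : CP V Q T C R N B U a t z1 z2 z3 u2 u3 f12 f21 f13 f31)
include h

theorem zvV (i j k : ZMod 2) : zv z1 z2 z3 i j k ∈ V := zv_mem h.z1V h.z2V h.z3V i j k

theorem zvU (i j k : ZMod 2) : zv z1 z2 z3 i j k ∈ U := h.VU (h.zvV i j k)

theorem zvm (i j k i' j' k' : ZMod 2) :
    zv z1 z2 z3 i j k * zv z1 z2 z3 i' j' k' = zv z1 z2 z3 (i + i') (j + j') (k + k') :=
  zv_mul h.ab h.sq (h.VU h.z1V) (h.VU h.z2V) (h.VU h.z3V) i j k i' j' k'

theorem zv_eq {i j k : ZMod 2} (h1 : zv z1 z2 z3 i j k = 1) : i = 0 ∧ j = 0 ∧ k = 0 := h.ind i j k h1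

theorem zv_inj {i j k i' j' k' : ZMod 2} (h1 : zv z1 z2 z3 i j k = zv z1 z2 z3 i' j' k') :
    i = i' ∧ j = j' ∧ k = k' := by
  have h2 : zv z1 z2 z3 (i + i') (j + j') (k + k') = 1 := by
    rw [← h.zvm, h1, h.sq _ (h.zvU _ _ _)]
  obtain ⟨h3, h4, h5⟩ := h.zv_eq h2
  exact ⟨add_eq_zero2 h3, add_eq_zero2 h4, add_eq_zero2 h5⟩

theorem k12 {q : G} (hq : q ∈ Q) : Cm q u2 (zv z1 z2 z3 (f12 q) (f21 q) 0) := by
  rw [Cm, h.h12 q hq, zv, pz_zero, mul_one]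

theorem k13 {q : G} (hq : q ∈ Q) : Cm q u3 (zv z1 z2 z3 (f13 q) 0 (f31 q)) := by
  rw [Cm, h.h13 q hq, zv, pz_zero, mul_one]

theorem kV {q v : G} (hq : q ∈ Q) (hv : v ∈ V) : Cm q v 1 := Cm.one_iff.2 (h.Qc q hq v hv)

theorem hom12 {q q' : G} (hq : q ∈ Q) (hq' : q' ∈ Q) : f12 (q * q') = f12 q + f12 q' ∧ f21 (q * q') = f21 q + f21 q' := by
  have h1 := (h.k12 hq).comp (h.k12 hq') (h.Qc q hq _ (h.zvV _ _ _))
  rw [h.zvm] at h1
  obtain ⟨h2, h3, _⟩ := h.zv_inj ((h.k12 (mul_mem hq hq')).uniq h1)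
  exact ⟨h2, h3⟩

theorem hom13 {q q' : G} (hq : q ∈ Q) (hq' : q' ∈ Q) : f13 (q * q') = f13 q + f13 q' ∧ f31 (q * q') = f31 q + f31 q' := by
  have h1 := (h.k13 hq).comp (h.k13 hq') (h.Qc q hq _ (h.zvV _ _ _))
  rw [h.zvm] at h1
  obtain ⟨h2, _, h3⟩ := h.zv_inj ((h.k13 (mul_mem hq hq')).uniq h1)
  exact ⟨h2, h3⟩

theorem one12 : f12 1 = 0 ∧ f21 1 = 0 := by
  obtain ⟨h1, h2⟩ := h.hom12 (one_mem Q) (one_mem Q)
  rw [one_mul] at h1 h2
  exact ⟨left_eq_add.1 h1, left_eq_add.1 h2⟩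

theorem one13 : f13 1 = 0 ∧ f31 1 = 0 := by
  obtain ⟨h1, h2⟩ := h.hom13 (one_mem Q) (one_mem Q)
  rw [one_mul] at h1 h2
  exact ⟨left_eq_add.1 h1, left_eq_add.1 h2⟩

theorem inv12 {q : G} (hq : q ∈ Q) : f12 q⁻¹ = f12 q ∧ f21 q⁻¹ = f21 q := by
  obtain ⟨h1, h2⟩ := h.hom12 (inv_mem hq) hq
  rw [inv_mul_cancel, h.one12.1] at h1
  rw [inv_mul_cancel, h.one12.2] at h2
  exact ⟨add_eq_zero2 h1.symm, add_eq_zero2 h2.symm⟩

theorem inv13 {q : G} (hq : q ∈ Q) : f13 q⁻¹ = f13 q ∧ f31 q⁻¹ = f31 q := by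
  obtain ⟨h1, h2⟩ := h.hom13 (inv_mem hq) hq
  rw [inv_mul_cancel, h.one13.1] at h1
  rw [inv_mul_cancel, h.one13.2] at h2
  exact ⟨add_eq_zero2 h1.symm, add_eq_zero2 h2.symm⟩

theorem az (i j k : ZMod 2) : a * zv z1 z2 z3 i j k * a⁻¹ = zv z1 z2 z3 k j i := by
  rw [zv_conj, h.az1, h.az2, h.az3, zv, zv]
  have m1 := pz_mem (h.VU h.z1V)
  have m2 := pz_mem (h.VU h.z2V)
  have m3 := pz_mem (h.VU h.z3V)
  rw [h.ab _ (U.mul_mem (m3 i) (m2 j)) _ (m1 k), h.ab _ (m3 i) _ (m2 j), mul_assoc]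

theorem tz (i j k : ZMod 2) : t * zv z1 z2 z3 i j k * t⁻¹ = zv z1 z2 z3 j i k := by
  rw [zv_conj, h.tz1, h.tz2, h.Rz3 t (h.TR h.tT), zv, zv]
  have m1 := pz_mem (h.VU h.z1V)
  have m2 := pz_mem (h.VU h.z2V)
  rw [h.ab _ (m2 i) _ (m1 j)]

theorem TQ' {s : G} (hs : s ∈ T) {q : G} (hq : q ∈ Q) : s⁻¹ * q * s ∈ Q := by
  have := h.TQ s⁻¹ (inv_mem hs) q hq
  rwa [inv_inv] at this

theorem aqa (q : G) : a * (a * q * a⁻¹) * a⁻¹ = q := by
  have h4 : a⁻¹ = a := inv_eq_of_mul_eq_one_left h.aa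
  calc a * (a * q * a⁻¹) * a⁻¹ = (a * a) * q * (a⁻¹ * a⁻¹) := by group
    _ = q := by rw [h4, h.aa, one_mul, mul_one]

theorem kau2 {q : G} (hq : q ∈ Q) :
    Cm q (a * u2 * a⁻¹) (zv z1 z2 z3 0 (f21 (a * q * a⁻¹)) (f12 (a * q * a⁻¹))) := by
  have h1 := (h.k12 (h.aQ q hq)).conj a
  rwa [h.aqa, h.az] at h1

theorem ktu3 {q : G} (hq : q ∈ Q) :
    Cm q (t * u3 * t⁻¹) (zv z1 z2 z3 0 (f13 (t⁻¹ * q * t)) (f31 (t⁻¹ * q * t))) := by
  have h1 := (h.k13 (h.TQ' h.tT hq)).conj t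
  have h2 : t * (t⁻¹ * q * t) * t⁻¹ = q := by group
  rwa [h2, h.tz] at h1

theorem katu3 {q : G} (hq : q ∈ Q) :
    Cm q (a * (t * u3 * t⁻¹) * a⁻¹)
      (zv z1 z2 z3 (f31 (t⁻¹ * (a * q * a⁻¹) * t)) (f13 (t⁻¹ * (a * q * a⁻¹) * t)) 0) := by
  have h1 := (h.ktu3 (h.aQ q hq)).conj a
  rwa [h.aqa, h.az] at h1

theorem u3U : u3 ∈ U := by
  have := (h.box 1 (one_mem _)).1
  rwa [one_mul, inv_one, mul_one] at this

/-- independence of `u₁₂ ^ a, u₁₂, z₁, z₂, z₃` -/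
theorem ind5 {p s i j k : ZMod 2} (h1 : pz (a * u2 * a⁻¹) p * pz u2 s * zv z1 z2 z3 i j k = 1) :
    p = 0 ∧ s = 0 ∧ i = 0 ∧ j = 0 ∧ k = 0 := by
  have h2 : ∀ q ∈ Q, s * f12 q = 0 ∧ p * f12 (a * q * a⁻¹) = 0 := by
    intro q hq
    have h3 := (((h.kau2 hq).pz p).mul ((h.k12 hq).pz s) ?_).mul (h.kV hq (h.zvV i j k)) ?_
    · rw [h1, mul_one, pz_zv, pz_zv, h.zvm] at h3
      obtain ⟨h4, _, h5⟩ := h.zv_eq (h3.uniq (Cm.one q))
      constructor
      · rw [← h4, mul_zero, zero_add]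
      · rw [← h5, mul_zero, add_zero]
    · exact h.ab _ (pz_mem (h.zvU _ _ _) p) _ (pz_mem h.u2U s)
    · exact h.ab _ (U.mul_mem (pz_mem (h.zvU _ _ _) p) (pz_mem (h.zvU _ _ _) s)) _ (h.zvU _ _ _)
  obtain ⟨q, hq, hq1⟩ := h.on12
  have hs : s = 0 := by
    have h3 := (h2 q hq).1
    rwa [hq1, mul_one] at h3
  have hp : p = 0 := by
    have h3 := (h2 _ (h.aQ q hq)).2
    rwa [h.aqa, hq1, mul_one] at h3
  rw [hs, hp, pz_zero, pz_zero, one_mul, one_mul] at h1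
  exact ⟨hp, hs, h.zv_eq h1⟩

theorem u2V : u2 ∉ V := by
  intro hV
  obtain ⟨q, hq, hq1⟩ := h.on12
  have h1 := (h.k12 hq).uniq (h.kV hq hV)
  have h2 := (h.zv_eq h1).1
  rw [hq1] at h2
  exact one_ne_zero h2

/-- `u₁₂ ^ a ∉ u₁₂ V` -/
theorem au2V : a * u2 * a⁻¹ * u2⁻¹ ∉ V := by
  intro hV
  obtain ⟨q, hq, hq1⟩ := h.on12
  set v := a * u2 * a⁻¹ * u2⁻¹ with hv
  have h1 : a * u2 * a⁻¹ = v * u2 := by rw [hv]; group
  have h2 := (h.kV hq hV).mul (h.k12 hq) (by rw [one_mul, mul_one])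
  rw [← h1, one_mul] at h2
  have h3 := (h.zv_inj (h2.uniq (h.kau2 hq))).1
  rw [hq1] at h3
  exact one_ne_zero h3

/-! ### LEMMA X and `fix` for good subgroups -/

theorem good (X : Set G) (hX : ∀ x ∈ X, x ∈ U) (hXa : ∀ x ∈ X, a * x * a⁻¹ ∈ U)
    (hB : ∀ b ∈ B, ∀ x ∈ X, b * x * b⁻¹ ∈ closure ((V : Set G) ∪ X)) : Good V B U a (closure ((V : Set G) ∪ X)) :=
  good_closure h.VU h.aV (fun b hb v hv => h.Qc b (h.BQ hb) v hv) hX hXa hB

theorem lemX [Finite G] {B₁ E : Subgroup G} {x : G} (g : Good V B U a E) (hx : a * x * a⁻¹ ≠ x) (hxV : x ∈ V)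
    (h1 : B₁ ≤ B) (hc : ∀ b ∈ B, (∀ e ∈ E, b * e = e * b) → b ∈ B₁)
    (hp : ∀ b ∈ B₁, ∀ e ∈ E, b * e * b⁻¹ * e⁻¹ = 1 ∨ b * e * b⁻¹ * e⁻¹ = x) :
    Nat.card E * Nat.card B₁ ≤ Nat.card B * Nat.card ↥(E ⊓ centralizer (B : Set G)) := by
  obtain ⟨k1, k2, k3, k4⟩ := g.XX h.aB h.aa
  exact lemX0 g.EU g.Ea h.ab h.sq h.aB g.BE h1 hc hx (fun b hb => h.Qc b (h.BQ (h1 hb)) x hxV) hp (h.ex _ k1 k2 k3 k4)

/-- the version for `E = ⟨V, X⟩` -/
theorem lemXc [Finite G] {B₁ : Subgroup G} {X : Set G} {x : G} (g : Good V B U a (closure ((V : Set G) ∪ X)))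
    (hx : a * x * a⁻¹ ≠ x) (hxV : x ∈ V) (h1 : B₁ ≤ B) (hc : ∀ b ∈ B, (∀ e ∈ X, b * e = e * b) → b ∈ B₁)
    (hp : ∀ b ∈ B₁, ∀ e ∈ X, b * e * b⁻¹ * e⁻¹ = 1 ∨ b * e * b⁻¹ * e⁻¹ = x) :
    Nat.card (closure ((V : Set G) ∪ X)) * Nat.card B₁ ≤
      Nat.card B * Nat.card ↥((closure ((V : Set G) ∪ X)) ⊓ centralizer (B : Set G)) := by
  have hxx : x * x = 1 := h.sq x (h.VU hxV)
  refine h.lemX g hx hxV h1 (fun b hb hbe => hc b hb fun e he => hbe e (subset_closure (Or.inr he))) ?_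
  intro b hb e he
  rw [← mem_zpowers2 hxx]
  refine comm_closure h.ab (fun e he => g.EU (subset_closure he)) ?_ ?_ e he
  · rw [zpowers_le]; exact h.VU hxV
  · rintro e (he | he)
    · rw [h.Qc b (h.BQ (h1 hb)) e he, mul_inv_cancel_right, mul_inv_cancel]
      exact one_mem _
    · rw [mem_zpowers2 hxx]
      exact hp b hb e he

theorem fixE {E : Subgroup G} (g : Good V B U a E) {u : G} (hu : u ∈ E) (hc : ∀ b ∈ B, b * u = u * b) :
    a * u * a⁻¹ * u⁻¹ ∈ V := by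
  obtain ⟨k1, k2, k3, k4⟩ := g.XX h.aB h.aa
  exact h.fix _ k1 k2 k3 k4 u (le_sup_left (a := E) hu) hc

/-- one generator -/
theorem good1 {w : G} (hw : w ∈ U) (haw : a * w * a⁻¹ ∈ U) (hB : ∀ b ∈ B, ∃ v ∈ V, b * w * b⁻¹ = w * v) :
    Good V B U a (closure ((V : Set G) ∪ {w})) := by
  refine h.good {w} ?_ ?_ ?_
  · rintro _ rfl; exact hw
  · rintro _ rfl; exact haw
  · rintro b hb _ rfl
    obtain ⟨v, hv, e⟩ := hB b hb
    rw [e]
    exact mul_mem (subset_closure (Or.inr rfl)) (subset_closure (Or.inl hv))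

/-- (0): `B` moves `u₁₂` -/
theorem nfix2 : ¬ ∀ b ∈ B, b * u2 = u2 * b := by
  intro hc
  have g : Good V B U a (closure ((V : Set G) ∪ {u2})) :=
    h.good1 h.u2U h.au2U fun b hb => ⟨_, h.zvV _ _ _, h.k12 (h.BQ hb)⟩
  exact h.au2V (h.fixE g (subset_closure (Or.inr rfl)) hc)

/-- (0): `B` moves `u₂₃` -/
theorem nfix23 : ¬ ∀ b ∈ B, b * (t * u3 * t⁻¹) = (t * u3 * t⁻¹) * b := by
  intro hc
  have g : Good V B U a (closure ((V : Set G) ∪ {t * u3 * t⁻¹})) :=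
    h.good1 (h.box t (h.TR h.tT)).1 (h.box t (h.TR h.tT)).2 fun b hb => ⟨_, h.zvV _ _ _, h.ktu3 (h.BQ hb)⟩
  have hV := h.fixE g (subset_closure (Or.inr rfl)) hc
  obtain ⟨q, hq, hq1⟩ := h.on31
  have hq' := h.TQ t h.tT q hq
  set w := t * u3 * t⁻¹ with hw
  set v := a * w * a⁻¹ * w⁻¹ with hv
  have h1 : a * w * a⁻¹ = v * w := by rw [hv]; group
  have h2 := (h.kV hq' hV).mul (h.ktu3 hq') (by rw [one_mul, mul_one])
  rw [← hw, ← h1, one_mul] at h2
  have h3 := (h.zv_inj (h2.uniq (h.katu3 hq'))).2.2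
  have h4 : t⁻¹ * (t * q * t⁻¹) * t = q := by group
  rw [h4, hq1] at h3
  exact one_ne_zero h3

/-- `z₁ ^ i z₂ ^ j` is moved by `a` if `i = 1` -/
theorem amove {j : ZMod 2} : a * zv z1 z2 z3 1 j 0 * a⁻¹ ≠ zv z1 z2 z3 1 j 0 := by
  rw [h.az]
  intro h1
  exact zero_ne_one (h.zv_inj h1).1

/-- (0) -/
theorem phi_cases [Finite G] : ((∀ b ∈ B, f12 b = 0) ∧ ∃ b ∈ B, f21 b = 1) ∨
    ∀ i j : ZMod 2, ∃ b ∈ B, f12 b = i ∧ f21 b = j := by
  by_cases h0 : ∀ b ∈ B, f12 b = 0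
  · left
    refine ⟨h0, ?_⟩
    by_contra hcon
    apply h.nfix2
    intro b hb
    have h1 : f21 b = 0 := (h01 _).resolve_right fun h2 => hcon ⟨b, hb, h2⟩
    have h2 := h.k12 (h.BQ hb)
    rw [h0 b hb, h1, zv_zero] at h2
    exact Cm.one_iff.1 h2
  · right
    push Not at h0
    obtain ⟨b₀, hb₀, hb0⟩ := h0
    have hb1 : f12 b₀ = 1 := (h01 _).resolve_left hb0
    by_cases h1 : ∃ b ∈ B, f12 b = 0 ∧ f21 b = 1
    · obtain ⟨b', hb', h2, h3⟩ := h1
      have hm := h.hom12 (h.BQ hb₀) (h.BQ hb')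
      rw [hb1, h2, h3, add_zero] at hm
      intro i j
      rcases h01 i with rfl | rfl
      · rcases h01 j with rfl | rfl
        · exact ⟨1, one_mem _, h.one12⟩
        · exact ⟨b', hb', h2, h3⟩
      · by_cases h4 : f21 b₀ = j
        · exact ⟨b₀, hb₀, hb1, h4⟩
        · refine ⟨b₀ * b', mul_mem hb₀ hb', hm.1, ?_⟩
          rw [hm.2]
          revert h4
          generalize f21 b₀ = y
          revert y j
          decide
    · exfalso
      push Not at h1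
      have key : ∀ b ∈ B, f12 b = 0 ∧ f21 b = 0 ∨ f12 b = 1 ∧ f21 b = f21 b₀ := by
        intro b hb
        rcases h01 (f12 b) with h2 | h2
        · left
          exact ⟨h2, (h01 _).resolve_right (h1 b hb h2)⟩
        · right
          refine ⟨h2, ?_⟩
          have hm := h.hom12 (h.BQ hb₀) (h.BQ hb)
          rw [hb1, h2, two0] at hm
          have h3 : f21 (b₀ * b) = 0 := (h01 _).resolve_right (h1 _ (mul_mem hb₀ hb) hm.1)
          rw [h3] at hm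
          exact (add_eq_zero2 hm.2.symm).symm
      have g : Good V B U a (closure ((V : Set G) ∪ {u2})) :=
        h.good1 h.u2U h.au2U fun b hb => ⟨_, h.zvV _ _ _, h.k12 (h.BQ hb)⟩
      have hX := h.lemXc (B₁ := B) (X := {u2}) (x := zv z1 z2 z3 1 (f21 b₀) 0) g h.amove (h.zvV _ _ _) le_rfl
        (fun b hb _ => hb) (by
          rintro b hb _ rfl
          have h2 := h.k12 (h.BQ hb)
          rw [h2.comm_eq (h.ab _ (h.zvU _ _ _) _ h.u2U)]
          rcases key b hb with ⟨h3, h4⟩ | ⟨h3, h4⟩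
          · left; rw [h3, h4, zv_zero]
          · right; rw [h3, h4])
      have h2 : closure ((V : Set G) ∪ {u2}) ≤ centralizer (B : Set G) := by
        have h3 : Nat.card ↥(closure ((V : Set G) ∪ {u2})) ≤
            Nat.card ↥(closure ((V : Set G) ∪ {u2}) ⊓ centralizer (B : Set G)) := by
          rw [mul_comm] at hX
          exact Nat.le_of_mul_le_mul_left hX Nat.card_pos
        exact inf_eq_left.1 (Subgroup.eq_of_le_of_card_ge inf_le_left h3)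
      exact h.nfix2 fun b hb => mem_centralizer_iff.1 (h2 (subset_closure (Or.inr rfl))) b hb

end CP

end Cfsg.Agent.Omega.NO3S.SN2.CPlus

end

section


/-!
# SN.Two / LightL, `n = 5`: there is no transvection with light centre ((T), `N = 4`, helper237 #22246 (2), helper320)

* `false_of_pair` : the pure form: no `SysW ρ Om` with `a, b ∈ Om` near, `a + b = z ≠ 0` fixed by the group;
* `SitT C W ε` : `C` acts by conjugation on the elementary abelian group `W`, `ε : (ι → F₂) → W` a line on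
  `z = ε (1,…,1)` (`ε eᵢ = zᵢ`, `ε (eᵢ + eⱼ) = x_ij`), all permutations of the letters are induced, `C` centralises
  `z` and `O₂(C / C_C(W)) = 1`;
* `SitT.no_light` : for 4 letters no element of `C` acts on `W` as a transvection with centre `c x_ij c⁻¹`.
-/

set_option autoImplicit false
set_option linter.unusedSectionVars false

namespace Cfsg.Agent.Omega.NO3S.SN2.LightFour

open Module Cfsg.Agent.Omega.TV
open Cfsg.Agent.Omega.TV.Sys (Near rad Big Clo)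

section pure

variable {H : Type*} [Group H] {V : Type*} [AddCommGroup V] [Module (ZMod 2) V]
  {ρ : H →* (V ≃ₗ[ZMod 2] V)} {Om : Set V}

theorem fix_fn (h : SysW ρ Om) {z : V} (hz : ∀ g, ρ g z = z) {r : V} (hr : r ∈ Om) {φ : Dual (ZMod 2) V}
    (hφ : Fn ρ r φ) : φ z = 0 := by
  refine z2_ne_one fun e => ?_
  obtain ⟨_, g, hg⟩ := hφ
  have h1 := hg z
  rw [hz g, e, one_smul] at h1
  exact h.ne_zero hr (by simpa using h1)

/-- **(T), `N = 4`, pure form.** -/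
theorem false_of_pair (h : SysW ρ Om) [Finite V] {z a b : V} (hz0 : z ≠ 0) (hz : ∀ g, ρ g z = z)
    (ch : ∀ g, (∀ w ∈ Submodule.span (ZMod 2) Om, ρ g w = w ∨ ρ g w = w + z) →
      (∀ w, ρ g w + w ∈ Submodule.span (ZMod 2) Om) → ∀ w, ρ g w = w)
    (ha : a ∈ Om) (hb : b ∈ Om) (hab : a + b = z) (hn : Near ρ Om a b) : False := by
  have hne : a ≠ b := by
    rintro rfl
    exact hz0 (by rw [← hab, v_add_self])
  have hnadj : ¬ Adj ρ a b := by
    rintro ⟨φ, hφ, e⟩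
    have h1 := fix_fn h hz ha hφ
    rw [← hab, map_add, hφ.1, e, zero_add] at h1
    exact one_ne_zero h1
  have hnb : ¬ Big ρ Om := fun hB => hnadj (h.adj_of_near hB ha hb hne hn)
  have huniq : ∀ r ∈ Om, ∀ φ ψ : Dual (ZMod 2) V, Fn ρ r φ → Fn ρ r ψ → φ ≠ 0 → ψ ≠ 0 → φ = ψ := by
    intro r hr φ ψ hφ hψ h1 h2
    by_contra h3
    exact hnb (h.big_of hr hφ hψ h1 h2 h3)
  have hsym : ∀ x ∈ Om, ∀ y ∈ Om, ∀ φ ψ : Dual (ZMod 2) V, Fn ρ x φ → Fn ρ y ψ → φ ≠ 0 → ψ ≠ 0 →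
      φ y = 1 → ψ x = 1 := by
    intro x hx y hy φ ψ hφ hψ h1 h2 h3
    obtain ⟨χ, hχ, e⟩ := h.symm hx hy ⟨φ, hφ, h3⟩
    have h4 : χ ≠ 0 := by
      rintro rfl
      rw [LinearMap.zero_apply] at e
      exact zero_ne_one e
    rw [huniq y hy ψ χ hψ hχ h2 h4]
    exact e
  obtain ⟨κ, hκ0, hκ⟩ := h.exists_fn ha
  obtain ⟨κ', hκ0', hκ'⟩ := h.exists_fn hb
  have hval : ∀ y ∈ Om, κ y = κ' y := by
    intro y hy
    obtain ⟨f, hf0, hf⟩ := h.exists_fn hy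
    have h1 := fix_fn h hz hy hf
    rw [← hab, map_add] at h1
    have h2 : κ y = f a := by
      rcases z2 (κ y) with e | e
      · rw [e]
        rcases z2 (f a) with e' | e'
        · exact e'.symm
        · exfalso
          rw [hsym y hy a ha f κ hf hκ hf0 hκ0 e'] at e
          exact one_ne_zero e
      · rw [e, hsym a ha y hy κ f hκ hf hκ0 hf0 e]
    have h3 : κ' y = f b := by
      rcases z2 (κ' y) with e | e
      · rw [e]
        rcases z2 (f b) with e' | e'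
        · exact e'.symm
        · exfalso
          rw [hsym y hy b hb f κ' hf hκ' hf0 hκ0' e'] at e
          exact one_ne_zero e
      · rw [e, hsym b hb y hy κ' f hκ' hf hκ0' hf0 e]
    rw [h2, h3]
    rcases z2 (f a) with e | e <;> rcases z2 (f b) with e' | e' <;> rw [e, e'] at h1 ⊢
    · rw [zero_add] at h1
      exact absurd h1 one_ne_zero
    · rw [add_zero] at h1
      exact absurd h1 one_ne_zero
  have hspan : ∀ w ∈ Submodule.span (ZMod 2) Om, κ w = κ' w := by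
    intro w hw
    have h1 : Submodule.span (ZMod 2) Om ≤ LinearMap.eqLocus κ κ' :=
      Submodule.span_le.2 fun y hy => hval y hy
    exact h1 hw
  have hκb : κ b = 0 := z2_ne_one fun e => hnadj ⟨κ, hκ, e⟩
  obtain ⟨_, g, hg⟩ := hκ
  obtain ⟨_, g', hg'⟩ := hκ'
  have hform : ∀ w, ρ (g * g') w = w + κ w • a + κ' w • b := by
    intro w
    rw [rmul, hg', map_add, map_smul, hg, hg, hκb, zero_smul, add_zero]
  have htriv := ch (g * g') (fun w hw => by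
    rw [hform, ← hspan w hw, add_assoc, ← smul_add, hab]
    rcases z2 (κ w) with e | e
    · left; rw [e, zero_smul, add_zero]
    · right; rw [e, one_smul]) (fun w => by
    rw [hform]
    have e : w + κ w • a + κ' w • b + w = κ w • a + κ' w • b := by
      rw [add_comm _ w, ← add_assoc, ← add_assoc, v_add_self, zero_add]
    rw [e]
    exact Submodule.add_mem _ (Submodule.smul_mem _ _ (Submodule.subset_span ha))
      (Submodule.smul_mem _ _ (Submodule.subset_span hb)))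
  obtain ⟨s, hs, e⟩ := h.exists_one ha ⟨‹_›, g, hg⟩ hκ0
  have h1 := htriv s
  rw [hform, ← hval s hs, e, one_smul, one_smul, add_assoc, hab] at h1
  exact hz0 (by simpa using h1)

/-- two points `p, q` which are exchanged by the group and whose sum is a point are near their sum -/
theorem near_add (h : SysW ρ Om) [Finite V] {p q r : V} (hr : r ∈ Om)
    (e : p + q = r) {g : H} (g1 : ρ g p = q) (g2 : ρ g q = p) : Near ρ Om r p := by
  have hgr : ρ g r = r := by rw [← e, map_add, g1, g2, add_comm]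
  obtain ⟨v, hv, hav⟩ := h.exists_adj hr
  obtain ⟨φ, hφ, h1⟩ := h.symm hr hv hav
  rw [← e, map_add] at h1
  rcases z2 (φ p) with e1 | e1
  · rw [e1, zero_add] at h1
    have h2 : Near ρ Om r q := ⟨v, hv, hav, φ, hφ, h1⟩
    have h3 := SysW.near_conj h h2 g
    rwa [hgr, g2] at h3
  · exact ⟨v, hv, hav, φ, hφ, e1⟩

end pure

variable {G : Type*} [Group G] {ι : Type*} [DecidableEq ι]

/-- The situation of (T). -/
structure SitT (C W : Subgroup G) (ε : (ι → ZMod 2) → G) : Prop where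
  sq : ∀ a ∈ W, a * a = 1
  nor : ∀ c ∈ C, ∀ w ∈ W, c * w * c⁻¹ ∈ W
  add : ∀ x y, ε (x + y) = ε x * ε y
  mem : ∀ x, ε x ∈ W
  inj : ∀ x, ε x = 1 → x = 0
  sym : ∀ σ : Equiv.Perm ι, ∃ n ∈ C, ∀ a : ι → ZMod 2, n * ε a * n⁻¹ = ε (a ∘ σ.symm)
  /-- `C` centralises `z` -/
  zf : ∀ c ∈ C, c * ε 1 = ε 1 * c
  /-- `O₂(C / C_C(W)) = 1` -/
  o2 : ∀ N : Subgroup G, N ≤ C → C ≤ Subgroup.normalizer (N : Set G) →
    (∀ g ∈ N, ∃ k, g ^ 2 ^ k ∈ Subgroup.centralizer (W : Set G)) → N ≤ Subgroup.centralizer (W : Set G)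

namespace SitT

variable {C W : Subgroup G} {ε : (ι → ZMod 2) → G}

theorem comm (h : SitT C W ε) {a b : G} (ha : a ∈ W) (hb : b ∈ W) : a * b = b * a := EA.comm_of h.sq ha hb

theorem inv_eq (h : SitT C W ε) {a : G} (ha : a ∈ W) : a⁻¹ = a := inv_eq_of_mul_eq_one_left (h.sq a ha)

/-- an element which is trivial on `W / U`, `U / ⟨z⟩`, `⟨z⟩` is trivial -/
theorem triv_of (h : SitT C W ε) {U : Subgroup G} (hUW : U ≤ W) (hUC : ∀ c ∈ C, ∀ u ∈ U, c * u * c⁻¹ ∈ U)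
    {z : G} (hzU : z ∈ U) (hz : ∀ c ∈ C, c * z = z * c) {g : G} (hg : g ∈ C)
    (h1 : ∀ u ∈ U, g * u * g⁻¹ = u ∨ g * u * g⁻¹ = u * z)
    (h2 : ∀ w ∈ W, g * w * g⁻¹ * w⁻¹ ∈ U) : ∀ w ∈ W, g * w * g⁻¹ = w := by
  have hzz : z * z = 1 := h.sq z (hUW hzU)
  let N : Subgroup G :=
    { carrier := {g | g ∈ C ∧ (∀ u ∈ U, g * u * g⁻¹ = u ∨ g * u * g⁻¹ = u * z) ∧
        ∀ w ∈ W, g * w * g⁻¹ * w⁻¹ ∈ U}
      one_mem' := ⟨C.one_mem, fun u _ => Or.inl (by group), fun w _ => by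
        have e : (1 : G) * w * 1⁻¹ * w⁻¹ = 1 := by group
        rw [e]; exact U.one_mem⟩
      mul_mem' := by
        rintro x y ⟨hx, x1, x2⟩ ⟨hy, y1, y2⟩
        refine ⟨C.mul_mem hx hy, fun u hu => ?_, fun w hw => ?_⟩
        · have e : x * y * u * (x * y)⁻¹ = x * (y * u * y⁻¹) * x⁻¹ := by group
          rw [e]
          rcases y1 u hu with e1 | e1 <;> rw [e1]
          · exact x1 u hu
          · have e2 : x * (u * z) * x⁻¹ = (x * u * x⁻¹) * z := by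
              calc x * (u * z) * x⁻¹ = x * u * (z * x⁻¹) := by group
                _ = x * u * (x⁻¹ * z) := by rw [← hz _ (C.inv_mem hx)]
                _ = (x * u * x⁻¹) * z := by group
            rw [e2]
            rcases x1 u hu with e3 | e3 <;> rw [e3]
            · exact Or.inr rfl
            · left; rw [mul_assoc, hzz, mul_one]
        · have e : x * y * w * (x * y)⁻¹ * w⁻¹ =
            (x * (y * w * y⁻¹ * w⁻¹) * x⁻¹) * (x * w * x⁻¹ * w⁻¹) := by group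
          rw [e]
          exact U.mul_mem (hUC x hx _ (y2 w hw)) (x2 w hw)
      inv_mem' := by
        rintro x ⟨hx, x1, x2⟩
        refine ⟨C.inv_mem hx, fun u hu => ?_, fun w hw => ?_⟩
        · have h3 : x⁻¹ * u * x⁻¹⁻¹ ∈ U := hUC _ (C.inv_mem hx) u hu
          rcases x1 _ h3 with e | e
          · left
            have e2 : x * (x⁻¹ * u * x⁻¹⁻¹) * x⁻¹ = u := by group
            rw [e2] at e
            exact e.symm
          · right
            have e2 : x * (x⁻¹ * u * x⁻¹⁻¹) * x⁻¹ = u := by group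
            rw [e2] at e
            calc x⁻¹ * u * x⁻¹⁻¹ = x⁻¹ * u * x⁻¹⁻¹ * (z * z) := by rw [hzz, mul_one]
              _ = x⁻¹ * u * x⁻¹⁻¹ * z * z := by group
              _ = u * z := by rw [← e]
        · have h3 := x2 _ (h.nor _ (C.inv_mem hx) w hw)
          have e2 : x * (x⁻¹ * w * x⁻¹⁻¹) * x⁻¹ * (x⁻¹ * w * x⁻¹⁻¹)⁻¹ = w * (x⁻¹ * w * x⁻¹⁻¹)⁻¹ := by group
          rw [e2] at h3
          have h4 := U.inv_mem h3
          have e3 : (w * (x⁻¹ * w * x⁻¹⁻¹)⁻¹)⁻¹ = x⁻¹ * w * x⁻¹⁻¹ * w⁻¹ := by group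
          rwa [e3] at h4 }
  have hNC : N ≤ C := fun x hx => hx.1
  have hnn : C ≤ Subgroup.normalizer (N : Set G) := by
    intro c hc
    have key : ∀ c ∈ C, ∀ x ∈ N, c * x * c⁻¹ ∈ N := by
      rintro c hc x ⟨hx, x1, x2⟩
      refine ⟨C.mul_mem (C.mul_mem hc hx) (C.inv_mem hc), fun u hu => ?_, fun w hw => ?_⟩
      · have h3 : c⁻¹ * u * c⁻¹⁻¹ ∈ U := hUC _ (C.inv_mem hc) u hu
        have e : c * x * c⁻¹ * u * (c * x * c⁻¹)⁻¹ = c * (x * (c⁻¹ * u * c⁻¹⁻¹) * x⁻¹) * c⁻¹ := by group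
        rw [e]
        rcases x1 _ h3 with e1 | e1 <;> rw [e1]
        · left; group
        · right
          calc c * (c⁻¹ * u * c⁻¹⁻¹ * z) * c⁻¹ = u * (c * z) * c⁻¹ := by group
            _ = u * (z * c) * c⁻¹ := by rw [hz c hc]
            _ = u * z := by group
      · have h3 : c⁻¹ * w * c⁻¹⁻¹ ∈ W := h.nor _ (C.inv_mem hc) w hw
        have e : c * x * c⁻¹ * w * (c * x * c⁻¹)⁻¹ * w⁻¹ =
          c * (x * (c⁻¹ * w * c⁻¹⁻¹) * x⁻¹ * (c⁻¹ * w * c⁻¹⁻¹)⁻¹) * c⁻¹ := by group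
        rw [e]
        exact hUC c hc _ (x2 _ h3)
    rw [Subgroup.mem_normalizer_iff]
    intro x
    constructor
    · exact key c hc x
    · intro hx
      have h3 := key c⁻¹ (C.inv_mem hc) _ hx
      have e : c⁻¹ * (c * x * c⁻¹) * c⁻¹⁻¹ = x := by group
      rwa [e] at h3
  have hpow : ∀ x ∈ N, ∃ k, x ^ 2 ^ k ∈ Subgroup.centralizer (W : Set G) := by
    rintro x ⟨hx, x1, x2⟩
    refine ⟨2, ?_⟩
    have hsq : ∀ w ∈ W, x * (x * w * x⁻¹) * x⁻¹ = w ∨ x * (x * w * x⁻¹) * x⁻¹ = w * z := by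
      intro w hw
      set u := x * w * x⁻¹ * w⁻¹ with hu
      have hu' : x * w * x⁻¹ = u * w := by rw [hu]; group
      have huU : u ∈ U := x2 w hw
      have e : x * (x * w * x⁻¹) * x⁻¹ = (x * u * x⁻¹) * (u * w) := by
        calc x * (x * w * x⁻¹) * x⁻¹ = x * (u * w) * x⁻¹ := by rw [hu']
          _ = (x * u * x⁻¹) * (x * w * x⁻¹) := by group
          _ = (x * u * x⁻¹) * (u * w) := by rw [hu']
      rw [e]
      have huu : u * u = 1 := h.sq u (hUW huU)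
      rcases x1 u huU with e1 | e1 <;> rw [e1]
      · left; rw [← mul_assoc, huu, one_mul]
      · right
        have e2 : z * u = u * z := h.comm (hUW hzU) (hUW huU)
        calc u * z * (u * w) = u * (z * u) * w := by group
          _ = (u * u) * z * w := by rw [e2]; group
          _ = w * z := by rw [huu, one_mul, h.comm (hUW hzU) hw]
    rw [Subgroup.mem_centralizer_iff]
    intro w hw
    have e4 : x ^ 2 ^ 2 * w * (x ^ 2 ^ 2)⁻¹ = x * (x * (x * (x * w * x⁻¹) * x⁻¹) * x⁻¹) * x⁻¹ := by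
      have : x ^ 2 ^ 2 = x * x * x * x := by
        norm_num [pow_succ]
      rw [this]
      group
    have h5 : x ^ 2 ^ 2 * w * (x ^ 2 ^ 2)⁻¹ = w := by
      rw [e4]
      rcases hsq w hw with e | e
      · rw [e]
        exact e
      · rw [e]
        have h6 : x * (x * (w * z) * x⁻¹) * x⁻¹ = x * (x * w * x⁻¹) * x⁻¹ * z := by
          have h7 : x * z = z * x := hz x hx
          have h8 : z * x⁻¹ = x⁻¹ * z := (hz _ (C.inv_mem hx)).symm
          calc x * (x * (w * z) * x⁻¹) * x⁻¹ = x * x * w * (z * x⁻¹) * x⁻¹ := by group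
            _ = x * x * w * (x⁻¹ * z) * x⁻¹ := by rw [h8]
            _ = x * x * w * x⁻¹ * (z * x⁻¹) := by group
            _ = x * x * w * x⁻¹ * (x⁻¹ * z) := by rw [h8]
            _ = x * (x * w * x⁻¹) * x⁻¹ * z := by group
        rw [h6, e, mul_assoc, hzz, mul_one]
    rw [mul_inv_eq_iff_eq_mul] at h5
    exact h5.symm
  have hfin := h.o2 N hNC hnn hpow (show g ∈ N from ⟨hg, h1, h2⟩)
  intro w hw
  rw [Subgroup.mem_centralizer_iff] at hfin
  rw [← hfin w hw]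
  group

/-- `x_pq` -/
def X (h : SitT C W ε) (p q : ι) : EA W h.sq := EA.mk h.sq (ε (Pi.single p 1 + Pi.single q 1)) (h.mem _)

/-- the representation -/
noncomputable def rep (h : SitT C W ε) : C →* (EA W h.sq ≃ₗ[ZMod 2] EA W h.sq) := EA.crep h.sq C h.nor

@[simp] theorem val_rep (h : SitT C W ε) (g : C) (a : EA W h.sq) :
    (h.rep g a).val = (g : G) * a.val * (g : G)⁻¹ := rfl

/-- the orbit of `x_pq` -/
def pts (h : SitT C W ε) (p q : ι) : Set (EA W h.sq) := {a | ∃ c : C, a = h.rep c (h.X p q)}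

theorem single_comp (σ : Equiv.Perm ι) (p : ι) :
    (Pi.single p 1 : ι → ZMod 2) ∘ σ.symm = Pi.single (σ p) 1 := by
  funext m
  simp only [Function.comp_apply, Pi.single_apply, Equiv.symm_apply_eq]

theorem act_X (h : SitT C W ε) (σ : Equiv.Perm ι) : ∃ g : C, ∀ p q, h.rep g (h.X p q) = h.X (σ p) (σ q) := by
  obtain ⟨n, hn, e⟩ := h.sym σ
  refine ⟨⟨n, hn⟩, fun p q => EA.ext ?_⟩
  rw [h.val_rep]
  change n * ε _ * n⁻¹ = ε _
  rw [e]
  congr 1
  rw [Pi.add_comp, single_comp, single_comp]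

theorem X_add (h : SitT C W ε) (p q r : ι) : h.X p q + h.X q r = h.X p r := by
  apply EA.ext
  change ε _ * ε _ = ε _
  rw [← h.add]
  congr 1
  funext m
  simp only [Pi.add_apply]
  have := z2_add_self ((Pi.single q 1 : ι → ZMod 2) m)
  calc (Pi.single p 1 : ι → ZMod 2) m + (Pi.single q 1 : ι → ZMod 2) m +
      ((Pi.single q 1 : ι → ZMod 2) m + (Pi.single r 1 : ι → ZMod 2) m)
      = (Pi.single p 1 : ι → ZMod 2) m + ((Pi.single q 1 : ι → ZMod 2) m + (Pi.single q 1 : ι → ZMod 2) m) +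
        (Pi.single r 1 : ι → ZMod 2) m := by ring
    _ = _ := by rw [this, add_zero]

theorem X_comm (h : SitT C W ε) (p q : ι) : h.X p q = h.X q p := by
  apply EA.ext
  change ε _ = ε _
  rw [add_comm]

theorem X_ne (h : SitT C W ε) {p q : ι} (hpq : p ≠ q) : h.X p q ≠ 0 := by
  intro e
  have h1 : ε (Pi.single p 1 + Pi.single q 1) = 1 := EA.val_eq_one.2 e
  have h2 := congrFun (h.inj _ h1) p
  rw [Pi.add_apply, Pi.single_eq_same, Pi.single_eq_of_ne hpq, add_zero] at h2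
  exact one_ne_zero h2

/-- the system of the light transvections -/
theorem sys (h : SitT C W ε) {p q : ι} (hpq : p ≠ q) {τ : G} (hτ : τ ∈ C)
    (htv : ∀ w ∈ W, τ * w * τ⁻¹ = w ∨ τ * w * τ⁻¹ = w * ε (Pi.single p 1 + Pi.single q 1))
    (hne : ∃ w ∈ W, τ * w * τ⁻¹ ≠ w) : SysW h.rep (h.pts p q) where
  zero := by
    rintro ⟨c, e⟩
    refine h.X_ne hpq ?_
    have h1 := congrArg (h.rep c⁻¹) e
    rw [map_zero, rinv] at h1
    exact h1.symm
  inv := by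
    rintro g _ ⟨c, rfl⟩
    exact ⟨g * c, by rw [rmul]⟩
  trans := by
    rintro _ ⟨c, rfl⟩ _ ⟨d, rfl⟩
    exact ⟨d * c⁻¹, by rw [rmul, rinv]⟩
  ex := by
    refine ⟨h.X p q, ⟨1, by rw [rone]⟩, ?_⟩
    obtain ⟨φ, hφ⟩ := exists_functional (h.rep ⟨τ, hτ⟩) (h.X_ne hpq) (fun a => by
      rcases htv a.val a.val_mem with e | e
      · exact Or.inl (EA.ext e)
      · exact Or.inr (EA.ext e))
    refine ⟨φ, ?_, ?_, ⟨τ, hτ⟩, hφ⟩
    · rintro rfl
      obtain ⟨w, hw, e⟩ := hne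
      apply e
      have h1 := hφ (EA.mk h.sq w hw)
      rw [LinearMap.zero_apply, zero_smul, add_zero] at h1
      exact congrArg EA.val h1
    · by_contra hcon
      have h1 := hφ (h.X p q)
      rw [z2_ne_zero hcon, one_smul, v_add_self] at h1
      have h2 := congrArg (h.rep (⟨τ, hτ⟩ : C)⁻¹) h1
      rw [map_zero, rinv] at h2
      exact h.X_ne hpq h2
  chain := by
    intro U hU g h1 h2 v
    apply EA.ext
    rw [h.val_rep]
    refine h.triv_of (U := EA.toSub U) (z := 1) ?_ ?_ (Subgroup.one_mem _) (fun c _ => by rw [mul_one, one_mul])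
      g.2 ?_ ?_ v.val v.val_mem
    · rintro _ ⟨a, _, rfl⟩
      exact a.val_mem
    · rintro c hc _ ⟨a, ha, rfl⟩
      exact ⟨_, hU ⟨c, hc⟩ a ha, rfl⟩
    · rintro _ ⟨a, ha, rfl⟩
      exact Or.inl (congrArg EA.val (h1 a ha))
    · intro n hn
      have h3 := h2 (EA.mk h.sq n hn)
      refine ⟨_, h3, ?_⟩
      rw [EA.val_add, h.val_rep, EA.val_mk, h.inv_eq hn]

/-- **(T), `N = 4`**: no element of `C` is a transvection of `W` with centre `x_pq`. -/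
theorem no_light' [Finite G] (h : SitT C W ε) (hι : Nat.card ι = 4) {p q : ι} (hpq : p ≠ q) {τ : G} (hτ : τ ∈ C)
    (htv : ∀ w ∈ W, τ * w * τ⁻¹ = w ∨ τ * w * τ⁻¹ = w * ε (Pi.single p 1 + Pi.single q 1)) :
    ∀ w ∈ W, τ * w * τ⁻¹ = w := by
  by_contra hcon
  push Not at hcon
  have hs := h.sys hpq hτ htv hcon
  have : Finite ι := Nat.finite_of_card_ne_zero (by rw [hι]; norm_num)
  have := Fintype.ofFinite ι
  -- the other two letters
  have hcard : Fintype.card ι = 4 := by rw [← Nat.card_eq_fintype_card, hι]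
  obtain ⟨r, s, hpr, hqr, hps, hqs, hrs, hall⟩ : ∃ r s : ι, p ≠ r ∧ q ≠ r ∧ p ≠ s ∧ q ≠ s ∧ r ≠ s ∧
      ∀ m, m = p ∨ m = q ∨ m = r ∨ m = s := by
    have h1 : (Finset.univ \ {p, q} : Finset ι).card = 2 := by
      rw [Finset.card_sdiff_of_subset (Finset.subset_univ _), Finset.card_univ, hcard,
        Finset.card_pair hpq]
    obtain ⟨r, s, hrs, e⟩ := Finset.card_eq_two.1 h1
    have hr : r ∈ (Finset.univ \ {p, q} : Finset ι) := by rw [e]; simp
    have hs' : s ∈ (Finset.univ \ {p, q} : Finset ι) := by rw [e]; simp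
    simp only [Finset.mem_sdiff, Finset.mem_univ, true_and, Finset.mem_insert, Finset.mem_singleton,
      not_or] at hr hs'
    refine ⟨r, s, fun e => hr.1 e.symm, fun e => hr.2 e.symm, fun e => hs'.1 e.symm, fun e => hs'.2 e.symm,
      hrs, fun m => ?_⟩
    by_cases hm : m ∈ ({p, q} : Finset ι)
    · simp only [Finset.mem_insert, Finset.mem_singleton] at hm
      rcases hm with rfl | rfl
      · exact Or.inl rfl
      · exact Or.inr (Or.inl rfl)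
    · have hm' : m ∈ (Finset.univ \ {p, q} : Finset ι) := by
        simp only [Finset.mem_sdiff, Finset.mem_univ, true_and]
        exact hm
      rw [e] at hm'
      simp only [Finset.mem_insert, Finset.mem_singleton] at hm'
      rcases hm' with rfl | rfl
      · exact Or.inr (Or.inr (Or.inl rfl))
      · exact Or.inr (Or.inr (Or.inr rfl))
  have hpq_mem : h.X p q ∈ h.pts p q := ⟨1, by rw [rone]⟩
  have mv : ∀ {a b : ι}, h.X a b ∈ h.pts p q → ∀ σ : Equiv.Perm ι, h.X (σ a) (σ b) ∈ h.pts p q := by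
    intro a b hab σ
    obtain ⟨g, hg⟩ := h.act_X σ
    rw [← hg]
    exact hs.inv g _ hab
  -- x_qr
  have hqr_mem : h.X q r ∈ h.pts p q := by
    have := mv hpq_mem (Equiv.swap p r)
    rw [Equiv.swap_apply_left, Equiv.swap_apply_of_ne_of_ne hpq.symm hqr, h.X_comm] at this
    exact this
  have hrs_mem : h.X r s ∈ h.pts p q := by
    have := mv hqr_mem (Equiv.swap q s)
    rw [Equiv.swap_apply_left, Equiv.swap_apply_of_ne_of_ne hqr.symm hrs, h.X_comm] at this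
    exact this
  -- nearness
  have n1 : Near h.rep (h.pts p q) (h.X q r) (h.X p q) := by
    obtain ⟨g, hg⟩ := h.act_X (Equiv.swap q r)
    refine near_add hs hqr_mem (p := h.X p q) (q := h.X p r) (g := g) ?_ ?_ ?_
    · rw [h.X_comm p q]; exact h.X_add q p r
    · rw [hg, Equiv.swap_apply_left, Equiv.swap_apply_of_ne_of_ne hpq hpr]
    · rw [hg, Equiv.swap_apply_right, Equiv.swap_apply_of_ne_of_ne hpq hpr]
  have n2 : Near h.rep (h.pts p q) (h.X q r) (h.X r s) := by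
    obtain ⟨g, hg⟩ := h.act_X (Equiv.swap q r)
    refine near_add hs hqr_mem (p := h.X r s) (q := h.X q s) (g := g) ?_ ?_ ?_
    · rw [h.X_comm r s, h.X_comm q s, add_comm, h.X_comm s q]
      rw [h.X_comm s r, add_comm, h.X_comm r s, add_comm]
      exact h.X_add q s r ▸ by rw [h.X_comm s r]
    · rw [hg, Equiv.swap_apply_right, Equiv.swap_apply_of_ne_of_ne hqs.symm hrs.symm]
    · rw [hg, Equiv.swap_apply_left, Equiv.swap_apply_of_ne_of_ne hqs.symm hrs.symm]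
  have hnear : Near h.rep (h.pts p q) (h.X p q) (h.X r s) :=
    hs.near_trans hpq_mem hqr_mem hrs_mem (hs.near_symm hqr_mem hpq_mem n1) n2
  -- z
  set Z : EA W h.sq := EA.mk h.sq (ε 1) (h.mem _) with hZ
  have hsum : h.X p q + h.X r s = Z := by
    apply EA.ext
    change ε _ * ε _ = ε 1
    rw [← h.add]
    congr 1
    funext m
    simp only [Pi.add_apply, Pi.one_apply]
    rcases hall m with rfl | rfl | rfl | rfl
    · rw [Pi.single_eq_same, Pi.single_eq_of_ne hpq, Pi.single_eq_of_ne hpr, Pi.single_eq_of_ne hps]; rfl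
    · rw [Pi.single_eq_same, Pi.single_eq_of_ne hpq.symm, Pi.single_eq_of_ne hqr, Pi.single_eq_of_ne hqs]; rfl
    · rw [Pi.single_eq_same, Pi.single_eq_of_ne hpr.symm, Pi.single_eq_of_ne hqr.symm,
        Pi.single_eq_of_ne hrs]; rfl
    · rw [Pi.single_eq_same, Pi.single_eq_of_ne hps.symm, Pi.single_eq_of_ne hqs.symm,
        Pi.single_eq_of_ne hrs.symm]; rfl
  have hZ0 : Z ≠ 0 := by
    intro e
    have h1 : ε 1 = 1 := EA.val_eq_one.2 e
    have h2 := congrFun (h.inj _ h1) p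
    exact one_ne_zero h2
  have hZf : ∀ g, h.rep g Z = Z := by
    intro g
    apply EA.ext
    rw [h.val_rep]
    change (g : G) * ε 1 * (g : G)⁻¹ = ε 1
    rw [h.zf g g.2]
    group
  refine false_of_pair hs hZ0 hZf ?_ hpq_mem hrs_mem hsum hnear
  intro g h1 h2 w
  apply EA.ext
  rw [h.val_rep]
  have hZs : Z ∈ Submodule.span (ZMod 2) (h.pts p q) := by
    rw [← hsum]
    exact Submodule.add_mem _ (Submodule.subset_span hpq_mem) (Submodule.subset_span hrs_mem)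
  have hinv : ∀ g : C, ∀ u ∈ Submodule.span (ZMod 2) (h.pts p q),
      h.rep g u ∈ Submodule.span (ZMod 2) (h.pts p q) := by
    intro k u hu
    have h2 : Submodule.span (ZMod 2) (h.pts p q) ≤ (Submodule.span (ZMod 2) (h.pts p q)).comap
        ((h.rep k : EA W h.sq ≃ₗ[ZMod 2] EA W h.sq).toLinearMap) :=
      Submodule.span_le.2 fun s hs' => Submodule.subset_span (hs.inv k s hs')
    exact h2 hu
  refine h.triv_of (U := EA.toSub (Submodule.span (ZMod 2) (h.pts p q))) (z := ε 1) ?_ ?_ ⟨Z, hZs, rfl⟩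
    h.zf g.2 ?_ ?_ w.val w.val_mem
  · rintro _ ⟨a, _, rfl⟩
    exact a.val_mem
  · rintro c hc _ ⟨a, ha, rfl⟩
    exact ⟨_, hinv ⟨c, hc⟩ a ha, rfl⟩
  · rintro _ ⟨a, ha, rfl⟩
    rcases h1 a ha with e | e
    · exact Or.inl (congrArg EA.val e)
    · exact Or.inr (congrArg EA.val e)
  · intro n hn
    have h3 := h2 (EA.mk h.sq n hn)
    refine ⟨_, h3, ?_⟩
    rw [EA.val_add, h.val_rep, EA.val_mk, h.inv_eq hn]

/-- **(T), `N = 4`**, for conjugate centres. -/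
theorem no_light [Finite G] (h : SitT C W ε) (hι : Nat.card ι = 4) {p q : ι} (hpq : p ≠ q) {τ m : G} (hτ : τ ∈ C)
    (hm : m ∈ C)
    (htv : ∀ w ∈ W, τ * w * τ⁻¹ = w ∨ τ * w * τ⁻¹ = w * (m * ε (Pi.single p 1 + Pi.single q 1) * m⁻¹)) :
    τ ∈ Subgroup.centralizer (W : Set G) := by
  have h1 := h.no_light' hι hpq (τ := m⁻¹ * τ * m) (C.mul_mem (C.mul_mem (C.inv_mem hm) hτ) hm) (fun w hw => by
    have h2 : m * w * m⁻¹ ∈ W := h.nor m hm w hw
    have e : m⁻¹ * τ * m * w * (m⁻¹ * τ * m)⁻¹ = m⁻¹ * (τ * (m * w * m⁻¹) * τ⁻¹) * m := by group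
    rw [e]
    rcases htv _ h2 with e1 | e1 <;> rw [e1]
    · left; group
    · right; group)
  rw [Subgroup.mem_centralizer_iff]
  intro w hw
  have h2 : m⁻¹ * w * m ∈ W := by
    have := h.nor _ (C.inv_mem hm) w hw
    rwa [inv_inv] at this
  have h3 := h1 _ h2
  have e : m⁻¹ * τ * m * (m⁻¹ * w * m) * (m⁻¹ * τ * m)⁻¹ = m⁻¹ * (τ * w * τ⁻¹) * m := by group
  rw [e] at h3
  have h4 : τ * w * τ⁻¹ = w := by
    have h5 := congrArg (fun x => m * x * m⁻¹) h3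
    have e1 : m * (m⁻¹ * (τ * w * τ⁻¹) * m) * m⁻¹ = τ * w * τ⁻¹ := by group
    have e2 : m * (m⁻¹ * w * m) * m⁻¹ = w := by group
    simp only [e1, e2] at h5
    exact h5
  rw [mul_inv_eq_iff_eq_mul] at h4
  exact h4.symm

end SitT

end Cfsg.Agent.Omega.NO3S.SN2.LightFour

end
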